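import Groth.Agent.EtpbcA.SuppFilt
import Groth.Agent.EtpbcA.SuppClosed
import Groth.Agent.S0099
import Groth.Agent.Etcore.Torsion
import Groth.Agent.Etdl.H435.FinLem
import Mathlib.RingTheory.Ideal.MinimalPrime.Localization

/-!
# Vanishing of the cohomology of `Spec L[1/f]`, `L` complete, for sheaves with small support

`van_away`: `L` complete Noetherian local with algebraically closed coefficient field of characteristic zero,
`F` a torsion sheaf on `Spec L[1/f]` such that `dim L/x ≤ m` for all `x` in the support of `F`: then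
`H^q(Spec L[1/f], F) = 0` for `q > m`.
-/

set_option autoImplicit false
universe u
open CategoryTheory CategoryTheory.Limits AlgebraicGeometry Opposite TopologicalSpace IsLocalRing

namespace Groth.Agent.EtDl.K391.AwayVan

open Groth.Agent.Etdl.H435 Groth.Agent.Etdl.H435.Defs Groth.Agent.EtpbcA Groth.Agent.EtpbcA.Artin

/-- The dimension of a ring is bounded by the dimensions of its irreducible components. -/
theorem ringKrullDim_le_of_minimal {R : Type u} [CommRing R] (m : ℕ)
    (h : ∀ P ∈ minimalPrimes R, ringKrullDim (R ⧸ P) ≤ m) : ringKrullDim R ≤ m := by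
  rw [ringKrullDim, Order.krullDim]
  refine iSup_le fun l => ?_
  obtain ⟨P, hP, hPl⟩ := Ideal.exists_minimalPrimes_le (I := (⊥ : Ideal R)) (J := l.head.asIdeal) bot_le
  have hmem : ∀ i, l i ∈ PrimeSpectrum.zeroLocus (P : Set R) := fun i => by
    have h1 : l.head ≤ l i := l.monotone (Fin.zero_le i)
    exact fun x hx => h1 (hPl hx)
  let l' : LTSeries (PrimeSpectrum.zeroLocus (P : Set R)) :=
    { length := l.length
      toFun := fun i => ⟨l i, hmem i⟩
      step := fun i => l.step i }
  have h2 : (l'.length : WithBot ℕ∞) ≤ Order.krullDim (PrimeSpectrum.zeroLocus (P : Set R)) :=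
    le_iSup (fun p : LTSeries (PrimeSpectrum.zeroLocus (P : Set R)) => (p.length : WithBot ℕ∞)) l'
  rw [← Order.krullDim_eq_of_orderIso P.primeSpectrumQuotientOrderIsoZeroLocus] at h2
  exact h2.trans (h P hP)

/-- The dimension of the image of `L` in `S` is bounded in terms of the primes of `S`. -/
theorem ringKrullDim_quotient_ker_le {L S : Type u} [CommRing L] [CommRing S] [Algebra L S] (m : ℕ)
    (h : ∀ Q : Ideal S, Q.IsPrime → ringKrullDim (L ⧸ Q.comap (algebraMap L S)) ≤ m) :
    ringKrullDim (L ⧸ RingHom.ker (algebraMap L S)) ≤ m := by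
  refine ringKrullDim_le_of_minimal m fun P hP => ?_
  obtain ⟨Q, hQ, hQP⟩ := Ideal.exists_comap_eq_of_mem_minimalPrimes_of_injective
    (f := RingHom.kerLift (algebraMap L S)) (RingHom.kerLift_injective _) P hP
  have hc : P.comap (Ideal.Quotient.mk (RingHom.ker (algebraMap L S))) = Q.comap (algebraMap L S) := by
    rw [← hQP, Ideal.comap_comap]
    rfl
  refine le_trans (ringKrullDim_le_of_surjective
    (Ideal.quotientMap P (Ideal.Quotient.mk (RingHom.ker (algebraMap L S))) hc.ge) ?_) (h Q hQ)
  exact Ideal.quotientMap_surjective Ideal.Quotient.mk_surjective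

attribute [local instance] GoodRing.isLocalRing GoodRing.isNoetherianRing GoodRing.isAdicComplete



theorem quotAway_quotient (L : Type u) [CommRing L] (f : L) (S : Type u) [CommRing S] [Algebra L S]
    [IsLocalization.Away f S] (s : Ideal S) : QuotAway f (S ⧸ s) := by
  have h0 : ∀ a : L, algebraMap L (S ⧸ s) a = Ideal.Quotient.mk s (algebraMap L S a) := fun a => rfl
  refine ⟨?_, fun y => ?_⟩
  · rw [h0]
    exact (IsLocalization.Away.algebraMap_isUnit f).map _
  · obtain ⟨y, rfl⟩ := Ideal.Quotient.mk_surjective y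
    obtain ⟨n, a, h⟩ := IsLocalization.Away.surj f y
    refine ⟨n, a, ?_⟩
    rw [h0, h0, ← map_pow, ← map_mul]
    exact congrArg _ h


theorem dim_quotient (L : Type u) [CommRing L] (S : Type u) [CommRing S] [Algebra L S] (s : Ideal S) (m : ℕ)
    (h : ∀ x : PrimeSpectrum S, s ≤ x.asIdeal → ringKrullDim (L ⧸ x.asIdeal.comap (algebraMap L S)) ≤ m) :
    ringKrullDim (L ⧸ RingHom.ker (algebraMap L (S ⧸ s))) ≤ m := by
  refine ringKrullDim_quotient_ker_le m fun Q hQ => ?_
  have hQ' : (Q.comap (Ideal.Quotient.mk s)).IsPrime := inferInstance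
  have h1 := h ⟨Q.comap (Ideal.Quotient.mk s), hQ'⟩ (by
    intro a ha
    change Ideal.Quotient.mk s a ∈ Q
    rw [Ideal.Quotient.eq_zero_iff_mem.2 ha]
    exact Q.zero_mem)
  have h2 : (Q.comap (Ideal.Quotient.mk s)).comap (algebraMap L S) = Q.comap (algebraMap L (S ⧸ s)) := by
    rw [Ideal.comap_comap]
    rfl
  have h3 : ringKrullDim (L ⧸ (Q.comap (Ideal.Quotient.mk s)).comap (algebraMap L S)) ≤ m := h1
  rwa [h2] at h3


theorem van_away (K : Type u) [Field K] [IsAlgClosed K] [CharZero K] (L : Type u) [CommRing L]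
    [Algebra K L] [GoodRing K L] (hS : ∀ j, SX.{u} j) (f : L) (S : Type u) [CommRing S] [Algebra L S]
    [IsLocalization.Away f S] (m : ℕ) (F : EtCoh.Ab (Spec (CommRingCat.of S))) (hF : EtCoh.IsTorsion F)
    (hsupp : ∀ x ∈ EtPBC.supp F,
      ringKrullDim (L ⧸ (PrimeSpectrum.asIdeal (R := S) x).comap (algebraMap L S)) ≤ m)
    (q : ℕ) (hq : m < q) : Subsingleton (EtCoh.H (Spec (CommRingCat.of S)) F q) := by
  have hnS : IsNoetherianRing S := IsLocalization.isNoetherianRing (Submonoid.powers f) S inferInstance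
  have hn0 : IsNoetherianRing (CommRingCat.of S) := hnS
  have hn : IsLocallyNoetherian (Spec (CommRingCat.of S)) := inferInstance
  let E : Set (Spec (CommRingCat.of S)) :=
    {x | ringKrullDim (L ⧸ (PrimeSpectrum.asIdeal (R := S) x).comap (algebraMap L S)) ≤ m}
  have hE : ∀ x y : Spec (CommRingCat.of S), x ⤳ y → x ∈ E → y ∈ E := by
    intro x y hxy hx
    have hle : PrimeSpectrum.asIdeal (R := S) x ≤ PrimeSpectrum.asIdeal (R := S) y :=
      (PrimeSpectrum.le_iff_specializes (x : PrimeSpectrum S) y).2 hxy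
    exact (ringKrullDim_le_of_surjective (Ideal.Quotient.factor (Ideal.comap_mono hle))
      (Ideal.Quotient.factor_surjective _)).trans hx
  refine SuppFilt.van_of_supp_stable E q ?_ hE ?_ F hF ?_
  · exact S0099.result (Spec (CommRingCat.of S)) q (SuppFilt.Index (Spec (CommRingCat.of S)) E)
  · intro Z hZc hZE G hG hGZ
    obtain ⟨s, hs⟩ := (PrimeSpectrum.isClosed_iff_zeroLocus_ideal (R := S) Z).1 hZc
    let i : Spec (CommRingCat.of (S ⧸ s)) ⟶ Spec (CommRingCat.of S) :=
      Spec.map (CommRingCat.ofHom (Ideal.Quotient.mk s))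
    have hcl : IsClosedImmersion i := IsClosedImmersion.spec_of_surjective _ Ideal.Quotient.mk_surjective
    have hr : Set.range i = Z := by
      rw [hs]
      refine (range_comap_of_surjective _ _ Ideal.Quotient.mk_surjective).trans ?_
      rw [Ideal.mk_ker]
    refine SuppClosed.van_of_supp_closed i G (by rw [hr]; exact hGZ) q (by omega) ?_
    have hcd : EtCoh.CohDimLE (Spec (CommRingCat.of (S ⧸ s))) m := by
      refine FinLem.cohDimLE_of_quotAway K L m (fun j _ => hS j) f (S ⧸ s)
        (quotAway_quotient L f S s) (dim_quotient L S s m fun x hx => ?_)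
      have hx' : x ∈ Z := by
        rw [hs]
        exact hx
      exact hZE hx'
    exact hcd _ (Etcore.Torsion.isTorsion_pull _ _ hG) q hq
  · exact hsupp

end Groth.Agent.EtDl.K391.AwayVan
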