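import Groth.Agent.Ega4B.DimFT2
import Mathlib.RingTheory.KrullDimension.Polynomial

/-!
# Strictly decreasing functions on the spectrum of a ring and of a polynomial ring

For a strictly antitone function `δ : Spec A → ℕ` (e.g. `δ p = dim A/p` for `A` local Noetherian), the
function `ext δ : Spec A[X] → ℕ`, `P ↦ δ (P ∩ A) + 1` if `P` is extended from `A` and `δ (P ∩ A)` otherwise,
is again strictly antitone (`strictAnti_ext`), for `A` Noetherian.
-/

set_option autoImplicit false
universe u

open Polynomial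

namespace Groth.Agent.EtDl.K391.DimFn

variable {A : Type u} [CommRing A]

theorem ker_mapRingHom_mk (p : Ideal A) :
    RingHom.ker (mapRingHom (Ideal.Quotient.mk p)) = p.map (C : A →+* A[X]) := by
  rw [Polynomial.ker_mapRingHom, Ideal.mk_ker]

theorem comap_map_C (p : Ideal A) : (p.map (C : A →+* A[X])).comap (C : A →+* A[X]) = p := by
  refine le_antisymm ?_ Ideal.le_comap_map
  intro a ha
  rw [Ideal.mem_comap, Ideal.mem_map_C_iff] at ha
  simpa using ha 0

theorem isPrime_map_C (p : Ideal A) [p.IsPrime] : (p.map (C : A →+* A[X])).IsPrime :=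
  Ideal.isPrime_map_C_of_isPrime

/-- A prime strictly below an extended prime over a Noetherian domain. -/
theorem exists_between_of_domain {D : Type u} [CommRing D] [IsDomain D] [IsNoetherianRing D]
    (p' : Ideal D) [p'.IsPrime] (P : Ideal D[X]) [P.IsPrime] (hP : P ≠ ⊥)
    (h : P < p'.map (C : D →+* D[X])) : ∃ q : Ideal D, q.IsPrime ∧ q ≠ ⊥ ∧ q < p' := by
  by_contra hcon
  push Not at hcon
  have h1 : p'.height ≤ (1 : ℕ) := by
    rw [Ideal.height_le_iff]
    intro q hq hlt
    have h2 : q = ⊥ := by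
      by_contra h3
      exact hcon q hq h3 hlt
    subst h2
    rw [Ideal.height_bot]
    exact_mod_cast one_pos
  have hpr := isPrime_map_C p'
  have hlies : (p'.map (C : D →+* D[X])).LiesOver p' := ⟨(comap_map_C p').symm⟩
  have h3 : (p'.map (C : D →+* D[X])).height = p'.height := by
    rw [Ideal.height_eq_height_add_of_liesOver_of_hasGoingDown p']
    have : (p'.map (C : D →+* D[X])).map (Ideal.Quotient.mk (p'.map (algebraMap D D[X]))) = ⊥ :=
      Ideal.map_quotient_self _
    rw [this]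
    have hp2 : (p'.map (algebraMap D D[X])).IsPrime := hpr
    rw [Ideal.height_bot, add_zero]
  rw [← h3, Ideal.height_le_iff] at h1
  have h4 := h1 P ‹_› h
  have h5 : P.height = 0 := by
    have h6 : P.height < 1 := by exact_mod_cast h4
    exact Order.lt_one_iff.mp h6
  exact hP (Ideal.height_eq_zero_iff_eq_bot.1 h5)

theorem exists_between [IsNoetherianRing A] (p p' : Ideal A) [p.IsPrime] [p'.IsPrime] (P : Ideal A[X])
    [P.IsPrime] (h1 : p.map (C : A →+* A[X]) < P) (h2 : P < p'.map (C : A →+* A[X])) :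
    ∃ q : Ideal A, q.IsPrime ∧ p < q ∧ q < p' := by
  let π : A →+* A ⧸ p := Ideal.Quotient.mk p
  have hπ : Function.Surjective π := Ideal.Quotient.mk_surjective
  let φ : A[X] →+* (A ⧸ p)[X] := mapRingHom π
  have hφ : Function.Surjective φ := Polynomial.map_surjective _ hπ
  have hker : RingHom.ker φ = p.map (C : A →+* A[X]) := ker_mapRingHom_mk p
  have hpp' : p ≤ p' := by
    have h3 := Ideal.comap_mono (f := (C : A →+* A[X])) (h1.le.trans h2.le)
    rwa [comap_map_C, comap_map_C] at h3
  have hPp : (P.map φ).IsPrime := Ideal.map_isPrime_of_surjective hφ (hker.le.trans h1.le)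
  have hp'' : (p'.map π).IsPrime := Ideal.map_isPrime_of_surjective hπ (by
    rw [Ideal.mk_ker]; exact hpp')
  have hne : P.map φ ≠ ⊥ := by
    intro h0
    rw [Ideal.map_eq_bot_iff_le_ker, hker] at h0
    exact absurd (lt_of_lt_of_le h1 h0) (lt_irrefl _)
  have hmm : (p'.map (C : A →+* A[X])).map φ = (p'.map π).map (C : (A ⧸ p) →+* (A ⧸ p)[X]) := by
    rw [Ideal.map_map, Ideal.map_map]
    congr 1
    ext a
    simp [φ]
  have hlt : P.map φ < (p'.map π).map (C : (A ⧸ p) →+* (A ⧸ p)[X]) := by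
    rw [← hmm]
    refine lt_of_le_of_ne (Ideal.map_mono h2.le) ?_
    intro h0
    have h3 := congrArg (Ideal.comap φ) h0
    rw [Ideal.comap_map_of_surjective' _ hφ, Ideal.comap_map_of_surjective' _ hφ, hker,
      sup_eq_left.2 h1.le, sup_eq_left.2 (h1.le.trans h2.le)] at h3
    exact h2.ne h3
  obtain ⟨q, hq, hq0, hqlt⟩ := exists_between_of_domain (p'.map π) (P.map φ) hne hlt
  refine ⟨q.comap π, inferInstance, ?_, ?_⟩
  · refine lt_of_le_of_ne ?_ ?_
    · intro a ha
      rw [Ideal.mem_comap, Ideal.Quotient.eq_zero_iff_mem.2 ha]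
      exact q.zero_mem
    · intro h0
      apply hq0
      rw [← Ideal.map_comap_of_surjective π hπ q, ← h0]
      exact Ideal.map_quotient_self p
  · refine lt_of_le_of_ne ?_ ?_
    · have h3 := Ideal.comap_mono (f := π) hqlt.le
      rwa [Ideal.comap_map_of_surjective' _ hπ, Ideal.mk_ker, sup_eq_left.2 hpp'] at h3
    · intro h0
      apply hqlt.ne
      rw [← h0, Ideal.map_comap_of_surjective π hπ q]

/-- two comparable primes over the same prime: the smaller one is extended -/
theorem eq_map_C_of_lt (P P' : Ideal A[X]) [P.IsPrime] [P'.IsPrime] (h : P < P')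
    (hc : P.comap (C : A →+* A[X]) = P'.comap (C : A →+* A[X])) :
    P = (P.comap (C : A →+* A[X])).map (C : A →+* A[X]) := by
  by_contra hne
  set p := P.comap (C : A →+* A[X]) with hp
  have hpp : p.IsPrime := inferInstance
  have hle : p.map (C : A →+* A[X]) ≤ P := Ideal.map_comap_le
  let π : A →+* A ⧸ p := Ideal.Quotient.mk p
  have hπ : Function.Surjective π := Ideal.Quotient.mk_surjective
  let φ : A[X] →+* (A ⧸ p)[X] := mapRingHom π
  have hφ : Function.Surjective φ := Polynomial.map_surjective _ hπ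
  have hker : RingHom.ker φ = p.map (C : A →+* A[X]) := ker_mapRingHom_mk p
  have hφC : ∀ a, φ (C a) = C (π a) := fun a => by simp [φ]
  have key : ∀ (Q : Ideal A[X]) [Q.IsPrime], p.map (C : A →+* A[X]) < Q → Q.comap (C : A →+* A[X]) = p →
      (Q.map φ).IsPrime ∧ (Q.map φ).height = 1 ∧ (Q.map φ).comap φ = Q := by
    intro Q _ hQ hQc
    have h1 : (Q.map φ).IsPrime := Ideal.map_isPrime_of_surjective hφ (hker.le.trans hQ.le)
    have h3 : (Q.map φ).comap φ = Q := by
      rw [Ideal.comap_map_of_surjective' _ hφ, hker, sup_eq_left.2 hQ.le]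
    refine ⟨h1, Ega4B.DimFT2.height_eq_one_of_under_eq_bot _ ?_ ?_, h3⟩
    · intro h0
      rw [Ideal.map_eq_bot_iff_le_ker, hker] at h0
      exact absurd (lt_of_lt_of_le hQ h0) (lt_irrefl _)
    · rw [eq_bot_iff]
      intro x hx
      obtain ⟨a, rfl⟩ := hπ x
      have h4 : φ (C a) ∈ Q.map φ := by rw [hφC]; exact hx
      have h5 : C a ∈ Q := by rw [← h3]; exact h4
      have h6 : a ∈ p := by rw [← hQc]; exact h5
      rw [Ideal.mem_bot]
      exact Ideal.Quotient.eq_zero_iff_mem.2 h6
  have hlt : p.map (C : A →+* A[X]) < P := lt_of_le_of_ne hle fun h0 => hne h0.symm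
  obtain ⟨a1, a2, a3⟩ := key P hlt rfl
  obtain ⟨b1, b2, b3⟩ := key P' (hlt.trans h) hc.symm
  have hlt' : P.map φ < P'.map φ := by
    refine lt_of_le_of_ne (Ideal.map_mono h.le) ?_
    intro h0
    apply h.ne
    rw [← a3, ← b3, h0]
  have h1 := Ideal.height_add_one_le_of_lt_of_isPrime hlt'
  rw [a2, b2] at h1
  exact absurd h1 (by decide)

/-- the extension of a function on `Spec A` to `Spec A[X]` -/
noncomputable def ext (δ : PrimeSpectrum A → ℕ) (P : PrimeSpectrum A[X]) : ℕ :=
  open Classical in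
  δ (P.comap (C : A →+* A[X])) +
    if P.asIdeal = (P.asIdeal.comap (C : A →+* A[X])).map (C : A →+* A[X]) then 1 else 0

theorem ext_of_eq (δ : PrimeSpectrum A → ℕ) (P : PrimeSpectrum A[X])
    (h : P.asIdeal = (P.asIdeal.comap (C : A →+* A[X])).map (C : A →+* A[X])) :
    ext δ P = δ (P.comap (C : A →+* A[X])) + 1 := by
  rw [ext, if_pos h]

theorem ext_of_ne (δ : PrimeSpectrum A → ℕ) (P : PrimeSpectrum A[X])
    (h : P.asIdeal ≠ (P.asIdeal.comap (C : A →+* A[X])).map (C : A →+* A[X])) :
    ext δ P = δ (P.comap (C : A →+* A[X])) := by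
  rw [ext, if_neg h, add_zero]

theorem le_ext (δ : PrimeSpectrum A → ℕ) (P : PrimeSpectrum A[X]) :
    δ (P.comap (C : A →+* A[X])) ≤ ext δ P := Nat.le_add_right _ _

theorem strictAnti_ext [IsNoetherianRing A] (δ : PrimeSpectrum A → ℕ) (hδ : StrictAnti δ) :
    StrictAnti (ext δ) := by
  intro P P' hlt
  have hle : P.comap (C : A →+* A[X]) ≤ P'.comap (C : A →+* A[X]) := Ideal.comap_mono hlt.le
  have hlt' : P.asIdeal < P'.asIdeal := hlt
  rcases eq_or_lt_of_le hle with heq | hlt2
  · have hc : P.asIdeal.comap (C : A →+* A[X]) = P'.asIdeal.comap (C : A →+* A[X]) :=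
      congrArg PrimeSpectrum.asIdeal heq
    have h1 := eq_map_C_of_lt P.asIdeal P'.asIdeal hlt' hc
    have h2 : P'.asIdeal ≠ (P'.asIdeal.comap (C : A →+* A[X])).map (C : A →+* A[X]) := by
      rw [← hc, ← h1]
      exact hlt'.ne'
    rw [ext_of_eq δ P h1, ext_of_ne δ P' h2, heq]
    exact Nat.lt_succ_self _
  · have h0 : δ (P'.comap (C : A →+* A[X])) < δ (P.comap (C : A →+* A[X])) := hδ hlt2
    by_cases h2 : P'.asIdeal = (P'.asIdeal.comap (C : A →+* A[X])).map (C : A →+* A[X])
    · by_cases h1 : P.asIdeal = (P.asIdeal.comap (C : A →+* A[X])).map (C : A →+* A[X])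
      · rw [ext_of_eq δ P h1, ext_of_eq δ P' h2]
        omega
      · rw [ext_of_ne δ P h1, ext_of_eq δ P' h2]
        obtain ⟨q, hq, hpq, hqp'⟩ := exists_between (P.asIdeal.comap (C : A →+* A[X]))
          (P'.asIdeal.comap (C : A →+* A[X])) P.asIdeal
          (lt_of_le_of_ne Ideal.map_comap_le fun h3 => h1 h3.symm) (h2 ▸ hlt')
        have h3 : δ ⟨q, hq⟩ < δ (P.comap (C : A →+* A[X])) := hδ (show _ < _ from hpq)
        have h4 : δ (P'.comap (C : A →+* A[X])) < δ ⟨q, hq⟩ := hδ (show _ < _ from hqp')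
        omega
    · rw [ext_of_ne δ P' h2]
      exact lt_of_lt_of_le h0 (le_ext δ P)

theorem length_add_le {α : Type*} [PartialOrder α] (g : α → ℕ) (hg : StrictAnti g) (l : LTSeries α) :
    g l.last + l.length ≤ g l.head := by
  have key : ∀ i : Fin (l.length + 1), g (l i) + (i : ℕ) ≤ g (l 0) := by
    intro i
    induction i using Fin.induction with
    | zero => simp
    | succ i ih =>
      have h1 : g (l i.succ) < g (l i.castSucc) := hg (l.step i)
      have h2 : ((i.castSucc : Fin (l.length + 1)) : ℕ) = i := rfl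
      have h3 : ((i.succ : Fin (l.length + 1)) : ℕ) = i + 1 := rfl
      rw [h2] at ih
      rw [h3]
      omega
  exact key (Fin.last _)

/-- a strictly decreasing function bounds the height of a prime -/
theorem height_le_of_strictAnti (g : PrimeSpectrum A → ℕ) (hg : StrictAnti g) (p : PrimeSpectrum A)
    (m : ℕ) (hm : ∀ q ≤ p, g q ≤ m + g p) : p.asIdeal.height ≤ m := by
  rw [PrimeSpectrum.height_eq_orderHeight]
  refine Order.height_le fun l hl => ?_
  have h1 := length_add_le g hg l
  have h2 : l.head ≤ p := by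
    rw [← hl]
    exact l.monotone (Fin.zero_le _)
  have h3 := hm _ h2
  rw [hl] at h1
  have h4 : l.length ≤ m := by omega
  exact_mod_cast h4

/-- The dimension of the closure of a point `y` of a local ring `L` dominating `R_o` with trivial closed fibre,
in terms of a strictly decreasing function on `Spec R`. -/
theorem ringKrullDim_quotient_le {R L : Type u} [CommRing R] [IsNoetherianRing R] [CommRing L] [IsLocalRing L]
    [IsNoetherianRing L] (φ : R →+* L) (δ : PrimeSpectrum R → ℕ) (hδ : StrictAnti δ) (o : PrimeSpectrum R)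
    (ho : (IsLocalRing.maximalIdeal L).comap φ = o.asIdeal) (hm : o.asIdeal.map φ = IsLocalRing.maximalIdeal L)
    (y : PrimeSpectrum L) (m : ℕ) (h : δ (y.comap φ) ≤ m + δ o) : ringKrullDim (L ⧸ y.asIdeal) ≤ m := by
  let x : PrimeSpectrum R := y.comap φ
  have hxo : x.asIdeal ≤ o.asIdeal := by
    rw [← ho]
    exact Ideal.comap_mono (IsLocalRing.le_maximalIdeal y.isPrime.ne_top)
  let mk := Ideal.Quotient.mk x.asIdeal
  have hmk : Function.Surjective mk := Ideal.Quotient.mk_surjective
  let ψ : (R ⧸ x.asIdeal) →+* (L ⧸ y.asIdeal) := Ideal.quotientMap y.asIdeal φ le_rfl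
  let _ : Algebra (R ⧸ x.asIdeal) (L ⧸ y.asIdeal) := ψ.toAlgebra
  have hψ : ∀ r, ψ (mk r) = Ideal.Quotient.mk y.asIdeal (φ r) := fun r => rfl
  let p : Ideal (R ⧸ x.asIdeal) := o.asIdeal.map mk
  have hpc : p.comap mk = o.asIdeal := by
    rw [Ideal.comap_map_of_surjective' _ hmk, Ideal.mk_ker, sup_eq_left.2 hxo]
  have hp : p.IsPrime := Ideal.map_isPrime_of_surjective hmk (by rw [Ideal.mk_ker]; exact hxo)
  have hloc : IsLocalRing (L ⧸ y.asIdeal) :=
    IsLocalRing.of_surjective' (Ideal.Quotient.mk y.asIdeal) Ideal.Quotient.mk_surjective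
  have hmax : (IsLocalRing.maximalIdeal (L ⧸ y.asIdeal)).comap (Ideal.Quotient.mk y.asIdeal) =
      IsLocalRing.maximalIdeal L := by
    have : IsLocalHom (Ideal.Quotient.mk y.asIdeal) := IsLocalHom.of_surjective _ Ideal.Quotient.mk_surjective
    exact IsLocalRing.maximalIdeal_comap _
  have hmax' : (IsLocalRing.maximalIdeal L).map (Ideal.Quotient.mk y.asIdeal) =
      IsLocalRing.maximalIdeal (L ⧸ y.asIdeal) := by
    rw [← hmax, Ideal.map_comap_of_surjective _ Ideal.Quotient.mk_surjective]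
  have hpm : p.map ψ = IsLocalRing.maximalIdeal (L ⧸ y.asIdeal) := by
    have h1 : p.map ψ = (o.asIdeal.map φ).map (Ideal.Quotient.mk y.asIdeal) := by
      rw [Ideal.map_map, Ideal.map_map]
      rfl
    rw [h1, hm, hmax']
  have hlies : (IsLocalRing.maximalIdeal (L ⧸ y.asIdeal)).LiesOver p := by
    refine ⟨?_⟩
    have h1 : ((IsLocalRing.maximalIdeal (L ⧸ y.asIdeal)).comap ψ).comap mk = o.asIdeal := by
      rw [Ideal.comap_comap]
      change (IsLocalRing.maximalIdeal (L ⧸ y.asIdeal)).comap ((Ideal.Quotient.mk y.asIdeal).comp φ) = _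
      rw [← Ideal.comap_comap, hmax, ho]
    have h2 : (IsLocalRing.maximalIdeal (L ⧸ y.asIdeal)).comap ψ = p := by
      rw [← Ideal.map_comap_of_surjective mk hmk ((IsLocalRing.maximalIdeal (L ⧸ y.asIdeal)).comap ψ), h1]
    exact h2.symm
  have hh := Ideal.height_le_height_add_of_liesOver p (IsLocalRing.maximalIdeal (L ⧸ y.asIdeal))
  have h0 : (IsLocalRing.maximalIdeal (L ⧸ y.asIdeal)).map
      (Ideal.Quotient.mk (p.map (algebraMap (R ⧸ x.asIdeal) (L ⧸ y.asIdeal)))) = ⊥ := by
    have h1 : p.map (algebraMap (R ⧸ x.asIdeal) (L ⧸ y.asIdeal)) =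
      IsLocalRing.maximalIdeal (L ⧸ y.asIdeal) := hpm
    rw [h1]
    exact Ideal.map_quotient_self _
  have hnt : Nontrivial ((L ⧸ y.asIdeal) ⧸ p.map (algebraMap (R ⧸ x.asIdeal) (L ⧸ y.asIdeal))) := by
    refine Ideal.Quotient.nontrivial_iff.2 ?_
    have h1 : p.map (algebraMap (R ⧸ x.asIdeal) (L ⧸ y.asIdeal)) =
      IsLocalRing.maximalIdeal (L ⧸ y.asIdeal) := hpm
    rw [h1]
    exact (IsLocalRing.maximalIdeal.isMaximal _).ne_top
  rw [h0, Ideal.height_bot, add_zero] at hh
  have hpht : p.height ≤ m := by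
    let δ' : PrimeSpectrum (R ⧸ x.asIdeal) → ℕ := fun q => δ (q.comap mk)
    have hδ' : StrictAnti δ' := fun q q' hqq' =>
      hδ ((RingHom.strictMono_comap_of_surjective hmk) hqq')
    refine height_le_of_strictAnti δ' hδ' ⟨p, hp⟩ m fun q _ => ?_
    have h1 : δ (q.comap mk) ≤ δ x := by
      refine hδ.antitone ?_
      intro a ha
      change mk a ∈ q.asIdeal
      rw [Ideal.Quotient.eq_zero_iff_mem.2 ha]
      exact q.asIdeal.zero_mem
    have h2 : δ' ⟨p, hp⟩ = δ o := congrArg δ (PrimeSpectrum.ext hpc)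
    change δ (q.comap mk) ≤ m + δ' ⟨p, hp⟩
    rw [h2]
    exact h1.trans h
  rw [← IsLocalRing.maximalIdeal_height_eq_ringKrullDim]
  exact_mod_cast hh.trans hpht

/-- a strictly decreasing function bounds the dimension -/
theorem ringKrullDim_le_of_strictAnti (m : ℕ) (g : PrimeSpectrum A → ℕ) (hg : StrictAnti g)
    (hm : ∀ x, g x ≤ m) : ringKrullDim A ≤ m := by
  rw [ringKrullDim, Order.krullDim]
  refine iSup_le fun l => ?_
  have key : ∀ i : Fin (l.length + 1), g (l i) + (i : ℕ) ≤ g (l 0) := by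
    intro i
    induction i using Fin.induction with
    | zero => simp
    | succ i ih =>
      have h1 : g (l i.succ) < g (l i.castSucc) := hg (l.step i)
      have h2 : ((i.castSucc : Fin (l.length + 1)) : ℕ) = i := rfl
      have h3 : ((i.succ : Fin (l.length + 1)) : ℕ) = i + 1 := rfl
      rw [h2] at ih
      rw [h3]
      omega
  have h1 := key (Fin.last _)
  have h2 := hm (l 0)
  have h3 : l.length ≤ m := by
    rw [Fin.val_last] at h1
    omega
  exact_mod_cast h3

/-- finite-dimensional rings have a strictly decreasing function bounded by the dimension -/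
theorem exists_strictAnti (d : ℕ) (hd : ringKrullDim A ≤ d) :
    ∃ δ : PrimeSpectrum A → ℕ, StrictAnti δ ∧ ∀ p, δ p ≤ d := by
  have hfin : ∀ p : PrimeSpectrum A, Order.coheight p ≤ (d : ℕ∞) := by
    intro p
    have h1 : ((Order.coheight p : ℕ∞) : WithBot ℕ∞) ≤ Order.krullDim (PrimeSpectrum A) :=
      Order.coheight_le_krullDim p
    have h2 := h1.trans hd
    exact_mod_cast h2
  refine ⟨fun p => (Order.coheight p).toNat, ?_, fun p => ?_⟩
  · intro p q hpq
    have h1 : Order.coheight q < Order.coheight p :=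
      Order.coheight_strictAnti hpq (lt_of_le_of_lt (hfin q) (ENat.natCast_lt_top d))
    have h2 : Order.coheight p ≠ ⊤ := ne_top_of_le_ne_top (ENat.natCast_ne_top d) (hfin p)
    rw [← ENat.natCast_toNat h1.ne_top, ← ENat.natCast_toNat h2] at h1
    exact_mod_cast h1
  · exact ENat.toNat_le_of_le_natCast (hfin p)

end Groth.Agent.EtDl.K391.DimFn
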