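import Groth.Agent.S0541
import Groth.Agent.S2039
import Groth.Agent.S0543
import Groth.Agent.S0579
import Groth.Agent.UnramA.GRingCpl
import Groth.Agent.UnramA.IndEtLift
import Groth.Agent.Hensel.LazardGlue
import Groth.Agent.Hensel.Exist
import Groth.Agent.CalgB.RegHom7
import Groth.Agent.Ega4C.GeomCompReg
import Groth.Agent.Etdl.H435.Defs

/-!
# Regular homomorphisms to complete strictly local rings

Let `R` be a G-ring containing `ℚ` and `p` a prime.  Then there is a regular homomorphism `φ : R → L`, `L` a complete
Noetherian local ring with an algebraically closed coefficient field of characteristic zero, with `φ⁻¹(𝔪_L) = p`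
and `p L = 𝔪_L`: the completion of the strict henselization of `R_p`.
-/

set_option autoImplicit false

universe u

open IsLocalRing

namespace Groth.Agent.EtDl.K391.RegGood

open Groth.Agent.Etdl.H435.Defs

theorem exists_regular_good (R : Type u) [CommRing R] [Algebra ℚ R] (hR : CAlg.IsGRing R)
    (p : Ideal R) [p.IsPrime] :
    ∃ (K : Type u) (_ : Field K) (_ : IsAlgClosed K) (_ : CharZero K) (L : Type u) (_ : CommRing L)
      (_ : IsLocalRing L) (_ : Algebra K L) (_ : GoodRing K L) (φ : R →+* L),
      @CAlg.IsRegularHom R _ _ _ φ.toAlgebra ∧ (maximalIdeal L).comap φ = p ∧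
        p.map φ = maximalIdeal L := by
  let A := Localization.AtPrime p
  obtain ⟨S, _, _, _, _, hS, -⟩ := Groth.Agent.Hensel.Exist.exists_isStrictHenselization A
  have hi : Groth.Agent.UnramA.IndEtFibre.IsIndEt A S :=
    Groth.Agent.UnramA.IndEtLift.isIndEt_of_isStrictHenselization A S
  have hNR : IsNoetherianRing R := hR.1
  have hN : IsNoetherianRing S := Groth.Agent.UnramA.IndEtLift.isNoetherianRing hi
  have het : Algebra.FormallyEtale A S := Groth.Agent.Hensel.LazardGlue.formallyEtale hi
  have hNA : IsNoetherianRing (Groth.Agent.UnramA.GRingCpl.Cpl A) := Groth.Agent.S0543.result _ _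
  have hNS : IsNoetherianRing (Groth.Agent.UnramA.GRingCpl.Cpl S) := Groth.Agent.S0543.result _ _
  let C := Groth.Agent.UnramA.GRingCpl.Cpl S
  have hlocC : IsLocalRing C := inferInstance
  have hcC : IsAdicComplete (maximalIdeal C) C := inferInstanceAs
    (IsAdicComplete (maximalIdeal (AdicCompletion (maximalIdeal S) S)) (AdicCompletion (maximalIdeal S) S))
  let : Algebra (Groth.Agent.UnramA.GRingCpl.Cpl A) C :=
    (Groth.Agent.UnramA.GRingCpl.cplMap A S).toAlgebra
  have : IsLocalHom (algebraMap (Groth.Agent.UnramA.GRingCpl.Cpl A) C) :=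
    inferInstanceAs (IsLocalHom (Groth.Agent.UnramA.GRingCpl.cplMap A S))
  have h2 : CAlg.IsRegularHom (Groth.Agent.UnramA.GRingCpl.Cpl A) C := by
    rw [Groth.Agent.S2039.result]
    exact Groth.Agent.UnramA.GRingCpl.isAdicFormallySmooth_cpl A S rfl
  have hst : IsScalarTower A (Groth.Agent.UnramA.GRingCpl.Cpl A) C := IsScalarTower.of_algebraMap_eq fun a =>
    (Groth.Agent.UnramA.GRingCpl.cplMap_algebraMap A S a).symm
  have h3 : CAlg.IsRegularHom A C :=
    Groth.Agent.Ega4C.GeomCompReg.isRegularHom_comp A (Groth.Agent.UnramA.GRingCpl.Cpl A) C (hR.2 p) h2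
  have h4 : CAlg.IsRegularHom R A :=
    Groth.Agent.CalgB.RegHom7.isRegularHom_of_isLocalization A p.primeCompl
  let : Algebra R C := ((algebraMap A C).comp (algebraMap R A)).toAlgebra
  have : IsScalarTower R A C := IsScalarTower.of_algebraMap_eq fun _ => rfl
  have h5 : CAlg.IsRegularHom R C :=
    Groth.Agent.Ega4C.GeomCompReg.isRegularHom_comp R A C h4 h3
  let : Algebra ℚ S := ((algebraMap A S).comp (algebraMap ℚ A)).toAlgebra
  have hchar : CharZero (ResidueField S) := algebraRat.charZero _
  have hsep : IsSepClosed (ResidueField S) := hS.isSepClosure.sep_closed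
  let : Algebra ℚ C := ((algebraMap S C).comp (algebraMap ℚ S)).toAlgebra
  have hcharC : CharZero (ResidueField C) := algebraRat.charZero _
  have hbij : Function.Bijective (ResidueField.map (algebraMap S C)) :=
    AdicCompletion.residueField_map_bijective_of_fg (maximalIdeal S).fg_of_isNoetherianRing
  have halg : IsAlgClosed (ResidueField S) := by
    refine IsAlgClosed.of_exists_root _ fun q _ hq => ?_
    exact IsSepClosed.exists_root q (Polynomial.degree_pos_of_irreducible hq).ne'
      (PerfectField.separable_of_irreducible hq)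
  have halgC : IsAlgClosed (ResidueField C) :=
    IsAlgClosed.of_ringEquiv _ _ (RingEquiv.ofBijective _ hbij)
  obtain ⟨s, hs⟩ := Groth.Agent.S0579.result C
  let : Algebra (ResidueField C) C := s.toAlgebra
  have hgood : GoodRing (ResidueField C) C := by
    refine ⟨hlocC, hNS, hcC, fun y => ⟨y, ?_⟩⟩
    exact RingHom.congr_fun hs y
  have hmapS : (maximalIdeal A).map (algebraMap A S) = maximalIdeal S :=
    Groth.Agent.UnramA.IndEtLift.map_maximalIdeal hi
  have hmapC : (maximalIdeal S).map (algebraMap S C) = maximalIdeal C :=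
    (AdicCompletion.maximalIdeal_eq_map (R := S)).symm
  have hAC : ∀ a, algebraMap A C a = algebraMap S C (algebraMap A S a) := by
    intro a
    rw [IsScalarTower.algebraMap_apply A (Groth.Agent.UnramA.GRingCpl.Cpl A) C]
    exact Groth.Agent.UnramA.GRingCpl.cplMap_algebraMap A S a
  have hAC' : algebraMap A C = (algebraMap S C).comp (algebraMap A S) := RingHom.ext hAC
  have hmapAC : (maximalIdeal A).map (algebraMap A C) = maximalIdeal C := by
    rw [hAC', ← Ideal.map_map, hmapS, hmapC]
  have hmapRC : p.map (algebraMap R C) = maximalIdeal C := by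
    have h6 : p.map (algebraMap R A) = maximalIdeal A := Localization.AtPrime.map_eq_maximalIdeal
    rw [IsScalarTower.algebraMap_eq R A C, ← Ideal.map_map, h6, hmapAC]
  refine ⟨ResidueField C, inferInstance, halgC, hcharC, C, inferInstance, hlocC, inferInstance, hgood,
    algebraMap R C, ?_, ?_, hmapRC⟩
  · exact h5
  · have hl2 : (maximalIdeal C).comap (algebraMap A C) = maximalIdeal A := by
      have : IsLocalHom (algebraMap A (Groth.Agent.UnramA.GRingCpl.Cpl A)) := inferInstance
      have : IsLocalHom (algebraMap A C) := by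
        rw [IsScalarTower.algebraMap_eq A (Groth.Agent.UnramA.GRingCpl.Cpl A) C]
        exact RingHom.isLocalHom_comp _ _
      exact IsLocalRing.maximalIdeal_comap _
    rw [IsScalarTower.algebraMap_eq R A C, ← Ideal.comap_comap, hl2]
    exact Localization.AtPrime.under_maximalIdeal

end Groth.Agent.EtDl.K391.RegGood
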