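import Groth.Agent.Etdl.H435.Pts
import Groth.Agent.Etdl.H435.Final
import Groth.Agent.EtDl.K391.AwayVan
import Groth.Agent.EtDl.K391.RegGood
import Groth.Agent.EtDl.K391.DimFn

/-!
# Stalks of the higher direct images along `D(z) → Spec E`

`E` a G-ring containing `ℚ`, `δ` a strictly decreasing function on `Spec E`, `F` torsion on `D(z)` with
`δ x < n + δ o` for all `x` in the support of `F`, `n ≥ 1`: the stalk of `R^n j_* F` at `o` vanishes.
-/

set_option autoImplicit false
universe u
open CategoryTheory CategoryTheory.Limits AlgebraicGeometry Opposite IsLocalRing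

namespace Groth.Agent.EtDl.K391.BLocal

open Groth.Agent.Etdl.H435 Groth.Agent.Etdl.H435.Defs Groth.Agent.EtpbcA Groth.Agent.EtpbcA.Artin

attribute [local instance] GoodRing.isNoetherianRing

theorem isUnit_natCast (R : Type u) [CommRing R] [Algebra ℚ R] (n : ℕ) (hn : 0 < n) : IsUnit (n : R) := by
  have h : IsUnit ((n : ℕ) : ℚ) := isUnit_iff_ne_zero.2 (Nat.cast_ne_zero.2 hn.ne')
  have h2 := h.map (algebraMap ℚ R)
  rwa [map_natCast] at h2

theorem not_mem_supp_basicOpen (E : Type u) [CommRing E] [Algebra ℚ E] (hE : CAlg.IsGRing E)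
    (δ : PrimeSpectrum E → ℕ) (hδ : StrictAnti δ) (z : E) {U : Scheme.{u}}
    (j : U ⟶ Spec (CommRingCat.of E)) [IsOpenImmersion j] [QuasiCompact j]
    (hj : ∀ v : Spec (CommRingCat.of E), v ∈ Set.range j ↔ z ∉ PrimeSpectrum.asIdeal (R := E) v)
    (F : EtCoh.Ab U) (hF : EtCoh.IsTorsion F) (n : ℕ) (o : Spec (CommRingCat.of E))
    (h : ∀ x ∈ EtPBC.supp F, δ (j x) < n + 1 + δ o) :
    o ∉ EtPBC.supp ((EtCoh.Rpush j (n + 1)).obj F) := by
  have hNE : IsNoetherianRing E := hE.1
  let o' : PrimeSpectrum E := o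
  obtain ⟨K, _, _, _, L, _, _, _, _, φ, hφ, hcomap, hmap⟩ :=
    RegGood.exists_regular_good E hE o'.asIdeal
  have hhens : HenselianLocalRing L := Good.henselian K L
  have hsep : IsSepClosed (ResidueField L) := Good.isSepClosed K L
  obtain ⟨g', hg'⟩ := Glue.exists_isPullback_basicOpen φ z j hj (Localization.Away (φ z))
  let _ : Algebra E L := φ.toAlgebra
  have ho : Spec.map (CommRingCat.ofHom (algebraMap E L)) (closedPoint L) = o := PrimeSpectrum.ext hcomap
  rw [← ho, Pts.not_mem_supp_iff_of_regular_henselian hφ (isUnit_natCast E) j _ g' hg' F hF (n + 1)]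
  refine AwayVan.van_away K L Final.SX_all (φ z) (Localization.Away (φ z)) n _
    (Groth.Agent.Etcore.Torsion.isTorsion_pull _ F hF) (fun x hx => ?_) (n + 1) (Nat.lt_succ_self n)
  rw [supp_pull] at hx
  let x' : PrimeSpectrum (Localization.Away (φ z)) := x
  refine DimFn.ringKrullDim_quotient_le φ δ hδ o' hcomap hmap
    (x'.comap (algebraMap L (Localization.Away (φ z)))) n ?_
  have h1 := h _ hx
  have h2 : j (g' x) = (x'.comap (algebraMap L (Localization.Away (φ z)))).comap φ := by
    have h3 := congrArg (fun t => t x) hg'.w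
    exact (Scheme.Hom.comp_apply g' j x).symm.trans (h3.trans (Scheme.Hom.comp_apply _ _ _))
  rw [h2] at h1
  change _ ≤ n + δ o
  omega

end Groth.Agent.EtDl.K391.BLocal
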