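import Groth.Agent.EtpbcA.P1Charts
import Groth.Agent.EtDl.K391.DimFn

/-!
# Points of the projective line

* `ext_eq_of_chart_eq`: the extension of a function from `Spec B` to the two charts of `P^1_B` agree;
* `isClosed_or_specializes`: a point of a geometric fibre of `P^1_B` in the first chart is closed or its image
  is the generic point of the fibre.
-/

set_option autoImplicit false
universe u
open CategoryTheory CategoryTheory.Limits AlgebraicGeometry Opposite Polynomial

namespace Groth.Agent.EtDl.K391.Fib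

open Groth.Agent.EtpbcA Groth.Agent.EtpbcA.P1Charts DimFn

variable (B : CommRingCat.{u})

/-- the generic point of the fibre of the affine line -/
noncomputable def gen (y : Spec B) : AA B :=
  (⟨(PrimeSpectrum.asIdeal (R := B) y).map (C : B →+* B[X]),
    @isPrime_map_C _ _ _ (PrimeSpectrum.isPrime (R := B) y)⟩ : PrimeSpectrum B[X])

theorem pr_gen (y : Spec B) : pr B (gen B y) = y := by
  apply PrimeSpectrum.ext
  exact comap_map_C _

theorem gen_specializes (y : Spec B) (w : AA B) (hw : pr B w = y) : gen B y ⤳ w := by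
  refine (PrimeSpectrum.le_iff_specializes (R := B[X]) _ _).1 ?_
  change (PrimeSpectrum.asIdeal (R := B) y).map (C : B →+* B[X]) ≤ PrimeSpectrum.asIdeal (R := B[X]) w
  rw [Ideal.map_le_iff_le_comap, ← hw]
  exact le_rfl

theorem eq_gen_of_specializes (y : Spec B) (w : AA B) (hw : pr B w = y) (h : w ⤳ gen B y) :
    w = gen B y := by
  have h1 := (PrimeSpectrum.le_iff_specializes (R := B[X]) _ _).2 (gen_specializes B y w hw)
  have h2 := (PrimeSpectrum.le_iff_specializes (R := B[X]) _ _).2 h
  exact PrimeSpectrum.ext (le_antisymm (α := Ideal B[X]) h2 h1)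

theorem X_notMem_gen (y : Spec B) : (X : B[X]) ∉ PrimeSpectrum.asIdeal (R := B[X]) (gen B y) := by
  intro h
  have h1 := (Ideal.mem_map_C_iff.1 h) 1
  rw [coeff_X_one] at h1
  exact (PrimeSpectrum.isPrime (R := B) y).ne_top ((Ideal.eq_top_iff_one _).2 h1)

theorem eq_gen_iff (w : AA B) : w = gen B (pr B w) ↔
    PrimeSpectrum.asIdeal (R := B[X]) w =
      ((PrimeSpectrum.asIdeal (R := B[X]) w).comap (C : B →+* B[X])).map (C : B →+* B[X]) := by
  constructor
  · intro h
    exact congrArg (PrimeSpectrum.asIdeal (R := B[X])) h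
  · intro h
    exact PrimeSpectrum.ext h

theorem toB_chart (i : Fin (1 + 1)) (w : AA B) : toB B (chart i B w) = pr B w := by
  rw [← Scheme.Hom.comp_apply, chart_toB]

theorem fib_add (i : Fin (1 + 1)) : i + 1 + 1 = i := by fin_cases i <;> rfl

/-- the generic points of the fibres agree in the two charts -/
theorem gen_of_chart_eq (i : Fin (1 + 1)) (u v : AA B) (h : chart i B u = chart (i + 1) B v)
    (hu : u = gen B (pr B u)) : v = gen B (pr B v) := by
  have hp : pr B u = pr B v := by
    rw [← toB_chart B i, ← toB_chart B (i + 1), h]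
  have h1 : chart (i + 1) B (gen B (pr B v)) ∈ Set.range (chart i B) :=
    (chart_mem_range_iff i B _).2 (X_notMem_gen B _)
  obtain ⟨u1, hu1⟩ := h1
  have h2 : pr B u1 = pr B v := by
    have h3 := congrArg (toB B) hu1
    rw [toB_chart, toB_chart, pr_gen] at h3
    exact h3
  have h3 : u ⤳ u1 := by
    rw [hu]
    exact gen_specializes B _ _ (h2.trans hp.symm)
  have h4 : chart (i + 1) B v ⤳ chart (i + 1) B (gen B (pr B v)) := by
    rw [← h, ← hu1]
    exact h3.map (chart i B).continuous
  exact eq_gen_of_specializes B _ v rfl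
    ((chart (i + 1) B).isOpenEmbedding.isInducing.specializes_iff.1 h4)

theorem ext_eq_of_chart_eq (δ : PrimeSpectrum B → ℕ) (i : Fin (1 + 1)) (u v : AA B)
    (h : chart i B u = chart (i + 1) B v) : ext δ u = ext δ v := by
  have hp : pr B u = pr B v := by
    rw [← toB_chart B i, ← toB_chart B (i + 1), h]
  have hp' : (PrimeSpectrum.comap (C : B →+* B[X]) u) = (PrimeSpectrum.comap (C : B →+* B[X]) v) := hp
  by_cases hu : u = gen B (pr B u)
  · have hv := gen_of_chart_eq B i u v h hu
    rw [ext_of_eq δ u ((eq_gen_iff B u).1 hu), ext_of_eq δ v ((eq_gen_iff B v).1 hv), hp']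
  · have hv : v ≠ gen B (pr B v) := fun hv => hu (by
      refine gen_of_chart_eq B (i + 1) v u ?_ hv
      rw [fib_add]
      exact h.symm)
    rw [ext_of_ne δ u (fun h1 => hu ((eq_gen_iff B u).2 h1)),
      ext_of_ne δ v (fun h1 => hv ((eq_gen_iff B v).2 h1)), hp']

section

variable {Ω : Type u} [Field Ω] {B} (ξ : Spec (CommRingCat.of Ω) ⟶ Spec B)

open Groth.Agent.Dix.ProjProper (mapBase mapBase_toZ isPullback_mapBase)

theorem isClosed_chart (i : Fin (1 + 1)) (v : AA (CommRingCat.of Ω)) (hv : IsClosed ({v} : Set (AA (CommRingCat.of Ω)))) :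
    IsClosed ({chart i (CommRingCat.of Ω) v} : Set (PP (CommRingCat.of Ω))) := by
  have h1 : IsProper (toB (CommRingCat.of Ω)) := Groth.Agent.Dix.ProjProper.isProper_toBase 1 _
  have h2 : JacobsonSpace (PP (CommRingCat.of Ω)) := LocallyOfFiniteType.jacobsonSpace (toB (CommRingCat.of Ω))
  have h3 := (chart i (CommRingCat.of Ω)).isOpenEmbedding.preimage_closedPoints
  have h4 : v ∈ closedPoints (AA (CommRingCat.of Ω)) := hv
  rw [← h3] at h4
  exact h4

/-- A point of a geometric fibre in a chart is closed or specializes to all points of the chart. -/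
theorem isClosed_or_specializes (y : Spec B) (hξ : Set.range ξ = {y}) (i : Fin (1 + 1))
    (x : (pullback (toB B) ξ : Scheme.{u})) (w : AA B) (hw : chart i B w = pullback.fst (toB B) ξ x) :
    IsClosed ({x} : Set (pullback (toB B) ξ : Scheme.{u})) ∨ w = gen B y := by
  have hmem : ∀ x' : (pullback (toB B) ξ : Scheme.{u}),
      pullback.fst (toB B) ξ x' ∈ Set.range (chart i B) →
      (fiberIso ξ).hom x' ∈ Set.range (chart i (CommRingCat.of Ω)) := by
    intro x' h
    rw [← mapBase_mem_range_iff i ξ, ← Scheme.Hom.comp_apply, fiberIso_hom_mapBase]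
    exact h
  obtain ⟨v, hv⟩ := hmem x ⟨w, hw⟩
  by_cases hv0 : (PrimeSpectrum.asIdeal (R := (Polynomial Ω)) v) = ⊥
  · right
    have hpw : pr B w = y := by
      rw [← toB_chart B i, hw, ← Scheme.Hom.comp_apply, pullback.condition,
        Scheme.Hom.comp_apply]
      have h3 : ξ (pullback.snd (toB B) ξ x) ∈ Set.range ξ := ⟨_, rfl⟩
      rw [hξ] at h3
      exact h3
    refine eq_gen_of_specializes B y w hpw ?_
    have hy : y ∈ Set.range ξ := by rw [hξ]; rfl
    obtain ⟨t, ht⟩ := hy
    obtain ⟨x', hx', -⟩ := Scheme.Pullback.exists_preimage_pullback (f := toB B) (g := ξ)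
      (chart i B (gen B y)) t (by
        rw [toB_chart, pr_gen, ht])
    obtain ⟨v', hv'⟩ := hmem x' (by rw [hx']; exact ⟨_, rfl⟩)
    have h1 : v ⤳ v' := by
      refine (PrimeSpectrum.le_iff_specializes (R := (Polynomial Ω)) _ _).1 ?_
      change PrimeSpectrum.asIdeal (R := (Polynomial Ω)) v ≤ _
      rw [hv0]
      exact bot_le
    have h2 : (fiberIso ξ).hom x ⤳ (fiberIso ξ).hom x' := by
      rw [← hv, ← hv']
      exact h1.map (chart i _).continuous
    have h3 : x ⤳ x' := (Scheme.homeoOfIso (fiberIso ξ)).isInducing.specializes_iff.1 h2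
    have h4 : chart i B w ⤳ chart i B (gen B y) := by
      rw [hw, ← hx']
      exact h3.map (pullback.fst (toB B) ξ).continuous
    exact (chart i B).isOpenEmbedding.isInducing.specializes_iff.1 h4
  · left
    have hmax : (PrimeSpectrum.asIdeal (R := (Polynomial Ω)) v).IsMaximal :=
      Ideal.IsPrime.isMaximal (PrimeSpectrum.isPrime (R := (Polynomial Ω)) v) hv0
    have hvc : IsClosed ({v} : Set (AA (CommRingCat.of Ω))) :=
      (PrimeSpectrum.isClosed_singleton_iff_isMaximal (R := (Polynomial Ω)) v).2 hmax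
    have h1 := isClosed_chart (Ω := Ω) i v hvc
    rw [hv] at h1
    have h2 := h1.preimage (fiberIso ξ).hom.continuous
    have h3 : (fiberIso ξ).hom ⁻¹' {(fiberIso ξ).hom x} = {x} := by
      ext z
      constructor
      · intro hz
        exact (Scheme.homeoOfIso (fiberIso ξ)).injective hz
      · rintro rfl
        rfl
    rwa [h3] at h2

end

end Groth.Agent.EtDl.K391.Fib
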