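import Groth.Agent.EtpbcB.FieldExtVan
import Groth.Agent.EtpbcB.IsoTransport
import Groth.Agent.Etcore.FGLim
import Groth.Agent.Etdl.H428.CdLower
import Groth.Agent.Etbc.H227.CdIso
import Groth.Agent.Etbc.H211.PrimTors
import Groth.Agent.CurvesA.GenStalk
import Groth.Agent.EtpbcA.CdEtLeray

/-!
# Cohomology of the generic point as a limit

* `H_subsingleton_generic`: `A` a domain, `F` a sheaf on `Spec A` with `H^q(Spec A[1/g], F) = 0` for all `g ≠ 0`: then
  `H^q(Spec K, F) = 0`, `K` the field of fractions.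
* `cohDimLEAt_fractionRing`: `cd_ℓ (Frac A) ≤ m` if `cd_ℓ (Spec A[1/g]) ≤ m` for all `g ≠ 0`.
-/

set_option autoImplicit false
universe u
open CategoryTheory CategoryTheory.Limits AlgebraicGeometry Opposite

namespace Groth.Agent.EtDl.K391.Frac

open Groth.Agent.EtpbcA Groth.Agent.EtpbcB

/-- An injective ring homomorphism whose range contains a subring can be inverted on it. -/
theorem exists_comp {C D E : Type u} [CommRing C] [CommRing D] [CommRing E] (φ : D →+* E)
    (hφ : Function.Injective φ) (ι : C →+* E) (h : ∀ c, ι c ∈ φ.range) :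
    ∃ ψ : C →+* D, φ.comp ψ = ι := by
  let e : D ≃+* φ.range := RingEquiv.ofBijective φ.rangeRestrict
    ⟨fun x y hxy => hφ (congrArg Subtype.val hxy), φ.rangeRestrict_surjective⟩
  refine ⟨(e.symm : φ.range →+* D).comp (ι.codRestrict φ.range h), ?_⟩
  ext c
  have h1 : e (e.symm (ι.codRestrict φ.range h c)) = ι.codRestrict φ.range h c := e.apply_symm_apply _
  exact congrArg Subtype.val h1

variable (A : Type u) [CommRing A] [IsDomain A]

/-- finitely many elements of the fraction field lie in a localization at one element -/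
theorem exists_away (K : Type u) [Field K] [Algebra A K] (hinj : Function.Injective (algebraMap A K))
    (hfr : ∀ z : K, ∃ a b : A, b ≠ 0 ∧ z * algebraMap A K b = algebraMap A K a) (S : Finset K) :
    ∃ (g : A) (_ : g ≠ 0) (φ : Localization.Away g →+* K), Function.Injective φ ∧
      φ.comp (algebraMap A (Localization.Away g)) = algebraMap A K ∧ ∀ x ∈ S, x ∈ φ.range := by
  classical
  have h1 : ∃ g : A, g ≠ 0 ∧ ∀ x ∈ S, ∃ a : A, x * algebraMap A K g = algebraMap A K a := by
    induction S using Finset.induction_on with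
    | empty => exact ⟨1, one_ne_zero, fun x hx => absurd hx (Finset.notMem_empty x)⟩
    | insert x S hx ih =>
      obtain ⟨g, hg, h⟩ := ih
      obtain ⟨a, b, hb, hab⟩ := hfr x
      refine ⟨g * b, mul_ne_zero hg hb, fun y hy => ?_⟩
      rw [Finset.mem_insert] at hy
      rcases hy with rfl | hy
      · refine ⟨g * a, ?_⟩
        rw [map_mul, map_mul, ← hab]
        ring
      · obtain ⟨c, hc⟩ := h y hy
        refine ⟨c * b, ?_⟩
        rw [map_mul, map_mul, ← hc]
        ring
  obtain ⟨g, hg, h⟩ := h1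
  have hg' : algebraMap A K g ≠ 0 := fun h0 => hg (hinj (h0.trans (map_zero _).symm))
  have hu : IsUnit (algebraMap A K g) := isUnit_iff_ne_zero.2 hg'
  refine ⟨g, hg, IsLocalization.Away.lift g hu, ?_, IsLocalization.Away.lift_comp g hu, fun x hx => ?_⟩
  · refine (injective_iff_map_eq_zero _).2 fun z hz => ?_
    obtain ⟨n, a, ha⟩ := IsLocalization.Away.surj g z
    have h2 := congrArg (IsLocalization.Away.lift g hu (S := Localization.Away g)) ha
    rw [map_mul, hz, zero_mul, IsLocalization.Away.lift_eq] at h2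
    have h3 : a = 0 := hinj (h2.symm.trans (map_zero _).symm)
    rw [h3, map_zero] at ha
    exact (((IsLocalization.Away.algebraMap_isUnit (S := Localization.Away g) g).pow n).mul_left_eq_zero).1 ha
  · obtain ⟨a, ha⟩ := h x hx
    refine ⟨algebraMap A _ a * IsLocalization.Away.invSelf g, ?_⟩
    have h2 : (IsLocalization.Away.lift g hu (S := Localization.Away g))
        (IsLocalization.Away.invSelf g) * algebraMap A K g = 1 := by
      have h3 := IsLocalization.Away.lift_eq (S := Localization.Away g) g hu g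
      rw [← h3, ← map_mul, mul_comm, IsLocalization.Away.mul_invSelf, map_one]
    rw [map_mul, IsLocalization.Away.lift_eq, ← ha, mul_assoc, mul_comm (algebraMap A K g), h2, mul_one]

theorem H_subsingleton_generic (K : Type u) [Field K] [Algebra A K]
    (hinj : Function.Injective (algebraMap A K))
    (hfr : ∀ z : K, ∃ a b : A, b ≠ 0 ∧ z * algebraMap A K b = algebraMap A K a)
    (F : EtCoh.Ab (Spec (CommRingCat.of A))) (q : ℕ)
    (h : ∀ g : A, g ≠ 0 → Subsingleton (EtCoh.H (Spec (CommRingCat.of (Localization.Away g)))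
      ((EtCoh.pull (Spec.map (CommRingCat.ofHom (algebraMap A (Localization.Away g))))).obj F) q)) :
    Subsingleton (EtCoh.H (Spec (CommRingCat.of K))
      ((EtCoh.pull (Spec.map (CommRingCat.ofHom (algebraMap A K)))).obj F) q) := by
  refine Groth.Agent.EtpbcB.FieldExtVan.vanish_of_limit
      (Etcore.PullbackLim.specSys (Etcore.FGLim.fgSys A K))
      (fun _ _ h => Etcore.PullbackLim.isAffineHom_specSys _ h) (fun a ↦ inferInstance)
      (fun a ↦ inferInstance)
      (Etcore.PullbackLim.specCone _ (Etcore.FGLim.fgCocone A K))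
      (Etcore.PullbackLim.isLimitSpecCone _ _ (Etcore.FGLim.isColimitFG A K))
      (fun a ↦ Spec.map (CommRingCat.ofHom (algebraMap A a.unop.1))) ?_
      (Spec.map (CommRingCat.ofHom (algebraMap A K))) ?_ F q fun j ↦ ?_
  · intro a b h
    exact (Spec.map_comp (CommRingCat.ofHom (algebraMap A b.unop.1))
      (CommRingCat.ofHom (Subalgebra.inclusion h.unop.le).toRingHom)).symm
  · intro a
    exact (Spec.map_comp (CommRingCat.ofHom (algebraMap A a.unop.1))
      (CommRingCat.ofHom a.unop.1.val.toRingHom)).symm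
  · obtain ⟨C, S, rfl⟩ := j
    obtain ⟨g, hg, φ, hφ, hφA, hS⟩ := exists_away A K hinj hfr S
    have hC : ∀ c : Algebra.adjoin A (S : Set K), (Algebra.adjoin A (S : Set K)).val.toRingHom c ∈ φ.range := by
      rintro ⟨c, hc⟩
      change c ∈ φ.range
      induction hc using Algebra.adjoin_induction with
      | mem x hx => exact hS x hx
      | algebraMap r => exact ⟨algebraMap A _ r, RingHom.congr_fun hφA r⟩
      | add x y _ _ hx hy => exact add_mem hx hy
      | mul x y _ _ hx hy => exact mul_mem hx hy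
    obtain ⟨ψ, hψ⟩ := exists_comp φ hφ _ hC
    refine ⟨Spec (CommRingCat.of (Localization.Away g)), Spec.map (CommRingCat.ofHom ψ),
      Spec.map (CommRingCat.ofHom φ), ?_, ?_⟩
    · refine (Spec.map_comp (CommRingCat.ofHom ψ) (CommRingCat.ofHom φ)).symm.trans ?_
      exact congrArg (fun t => Spec.map (CommRingCat.ofHom t)) hψ
    · have h2 : ψ.comp (algebraMap A (Algebra.adjoin A (S : Set K))) = algebraMap A (Localization.Away g) := by
        ext a
        apply hφ
        have h3 := RingHom.congr_fun hψ (algebraMap A (Algebra.adjoin A (S : Set K)) a)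
        have h4 := RingHom.congr_fun hφA a
        exact h3.trans h4.symm
      have h5 : Spec.map (CommRingCat.ofHom ψ) ≫
          Spec.map (CommRingCat.ofHom (algebraMap A (Algebra.adjoin A (S : Set K)))) =
          Spec.map (CommRingCat.ofHom (algebraMap A (Localization.Away g))) := by
        rw [← Spec.map_comp, ← CommRingCat.ofHom_comp, h2]
      change Subsingleton (EtCoh.H _ ((EtCoh.pull (Spec.map (CommRingCat.ofHom ψ) ≫
        Spec.map (CommRingCat.ofHom (algebraMap A (Algebra.adjoin A (S : Set K)))))).obj F) q)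
      rw [h5]
      exact h g hg

/-- `cd_ℓ (Frac A) ≤ m` if `cd_ℓ (Spec A[1/g]) ≤ m` for all `g ≠ 0`. -/
theorem cohDimLEAt_fractionRing (ℓ m : ℕ)
    (h : ∀ g : A, g ≠ 0 → Dix.CohDimLEAt (Spec (CommRingCat.of (Localization.Away g))) ℓ m) :
    Dix.CohDimLEAt (Spec (CommRingCat.of (FractionRing A))) ℓ m := by
  let x : Spec (CommRingCat.of A) := (⟨⊥, Ideal.isPrime_bot⟩ : PrimeSpectrum A)
  obtain ⟨e⟩ := Groth.Agent.Etdl.H428.CdLower.exists_ringEquiv_of_eq_bot A x rfl
  refine Groth.Agent.Etbc.H227.CdIso.cohDimLEAt_of_ringEquiv e ℓ m fun G hG q hq => ?_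
  let X := Spec (CommRingCat.of A)
  let i := X.fromSpecResidueField x
  let F := (EtCoh.push i).obj G
  have hF : Dix.IsPrimaryTorsion ℓ F := Groth.Agent.Etbc.H211.PrimTors.isPrimaryTorsion_push ℓ i G hG
  have h1 : IsIso ((EtCoh.pullPushAdj i).counit.app G) := Groth.Agent.CurvesA.GenStalk.isIso_counit x G
  refine CdEtLeray.H_subsingleton_of_iso (asIso ((EtCoh.pullPushAdj i).counit.app G)) q ?_
  change Subsingleton (EtCoh.H _ ((EtCoh.pull i).obj F) q)
  let K := (PrimeSpectrum.asIdeal (R := A) x).ResidueField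
  let t : Spec (CommRingCat.of K) ⟶ X := Spec.map (CommRingCat.ofHom (algebraMap A K))
  have ht : Spec.map (Scheme.Spec.residueFieldIso (CommRingCat.of A) x).inv ≫ t = i :=
    Scheme.Spec.map_residueFieldIso_inv_eq_fromSpecResidueField (CommRingCat.of A) x
  refine (IsoTransport.HIsoOver t i _ ht F q).toEquiv.subsingleton_congr.2 ?_
  refine H_subsingleton_generic A K ?_ ?_ F q fun g hg => ?_
  · rw [RingHom.injective_iff_ker_eq_bot, Ideal.ker_algebraMap_residueField]
  · intro z
    obtain ⟨a, b, hb, rfl⟩ := IsFractionRing.div_surjective (A := A ⧸ (PrimeSpectrum.asIdeal (R := A) x)) z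
    obtain ⟨a, rfl⟩ := Ideal.Quotient.mk_surjective a
    obtain ⟨b, rfl⟩ := Ideal.Quotient.mk_surjective b
    have hb0 : algebraMap (A ⧸ (PrimeSpectrum.asIdeal (R := A) x)) K (Ideal.Quotient.mk _ b) ≠ 0 :=
      IsFractionRing.to_map_ne_zero_of_mem_nonZeroDivisors hb
    refine ⟨a, b, ?_, ?_⟩
    · rintro rfl
      exact hb0 (by rw [map_zero, map_zero])
    · exact div_mul_cancel₀ _ hb0
  · exact h g hg _ (Groth.Agent.Etbc.H211.PrimTors.isPrimaryTorsion_pull ℓ _ _ hF) q hq

end Groth.Agent.EtDl.K391.Frac
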