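import Groth.Agent.EtDl.K391.Tower
import Groth.Agent.Sga4A.HensFibre
import Groth.Agent.EtpbcA.CdT1
import Groth.Agent.Etbc.H211.PrimTors
import Groth.Agent.Ega4B.GRingLoc
import Groth.Agent.Ega4B.GFTQuot
import Groth.Agent.S0537
import Groth.Agent.S0541
import Groth.Agent.S2046
import Groth.Prelude.Def_Dix

/-!
# Cohomological dimension of schemes over a henselian local ring

* `H_subsingleton_of_closed`: vanishing of `H^q(Spec A, G)`, `A` henselian local, from the closed point;
* `cohDimLEAt_of_closedPoint`: `cd_ℓ X ≤ cd_ℓ k + d` if the stalks of `R^q f_* F`, `q > d`, at the closed point vanish;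
* `closedPoint_not_mem`: these stalks vanish for affine open subschemes of the spectrum of a henselian G-ring of
  dimension `≤ d` containing `ℚ`.
-/

set_option autoImplicit false
universe u
open CategoryTheory CategoryTheory.Limits AlgebraicGeometry Opposite IsLocalRing

namespace Groth.Agent.EtDl.K391.Hens

open Groth.Agent.EtpbcA Groth.Agent.EtpbcA.Artin Groth.Agent.EtpbcB

theorem H_subsingleton_of_closed (A : Type u) [CommRing A] [HenselianLocalRing A]
    (G : EtCoh.Ab (Spec (CommRingCat.of A))) (hG : EtCoh.IsTorsion G) (q : ℕ)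
    (h : Subsingleton (EtCoh.H (Spec (CommRingCat.of (ResidueField A)))
      ((EtCoh.pull (Spec.map (CommRingCat.ofHom (residue A)))).obj G) q)) :
    Subsingleton (EtCoh.H (Spec (CommRingCat.of A)) G q) := by
  have hh : HenselianRing A (maximalIdeal A) := inferInstance
  have h1 := Groth.Agent.Sga4A.HensFibre.Hpull_affine A (maximalIdeal A) G hG q
  exact @Function.Injective.subsingleton _ _ _ h1.1 h

theorem H_subsingleton_of_closedPoint (A : Type u) [CommRing A] [HenselianLocalRing A]
    (G : EtCoh.Ab (Spec (CommRingCat.of A))) (hG : EtCoh.IsTorsion G)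
    (h : closedPoint A ∉ EtPBC.supp G) (q : ℕ) :
    Subsingleton (EtCoh.H (Spec (CommRingCat.of A)) G q) := by
  refine H_subsingleton_of_closed A G hG q (CdEtLeray.H_subsingleton_of_isZero
    (isZero_of_forall _ fun x hx => h ?_) q)
  rw [supp_pull] at hx
  have h1 : Spec.map (CommRingCat.ofHom (residue A)) x = closedPoint A := by
    have h2 := PBCVan.specMap_closedPoint (residue A)
    rw [← h2]
    congr 1
    exact Subsingleton.elim _ _
  rw [← h1]
  exact hx

theorem cohDimLEAt_of_closedPoint (A : Type u) [CommRing A] [HenselianLocalRing A] {X : Scheme.{u}}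
    (f : X ⟶ Spec (CommRingCat.of A)) [QuasiCompact f] [QuasiSeparated f] (ℓ : ℕ) (hℓ : 0 < ℓ) (e d : ℕ)
    (hk : Dix.CohDimLEAt (Spec (CommRingCat.of (ResidueField A))) ℓ e)
    (hd : ∀ F : EtCoh.Ab X, Dix.IsPrimaryTorsion ℓ F → ∀ q, d < q →
      closedPoint A ∉ EtPBC.supp ((EtCoh.Rpush f q).obj F)) : Dix.CohDimLEAt X ℓ (e + d) := by
  intro F hF n hn
  refine CdT1.H_subsingleton_of_Rpush f F n fun p q hpq => ?_
  have hG : Dix.IsPrimaryTorsion ℓ ((EtCoh.Rpush f q).obj F) :=
    Groth.Agent.Etbc.H211.PrimTors.isPrimaryTorsion_Rpush ℓ f F hF q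
  have hG' := Groth.Agent.Etbc.H211.PrimTors.isTorsion_of_isPrimaryTorsion hℓ hG
  by_cases hq : d < q
  · exact H_subsingleton_of_closedPoint A _ hG' (hd F hF q hq) p
  · refine H_subsingleton_of_closed A _ hG' p (hk _ ?_ p (by omega))
    exact Groth.Agent.Etbc.H211.PrimTors.isPrimaryTorsion_pull ℓ _ _ hG

theorem closedPoint_not_mem (A : Type u) [CommRing A] [HenselianLocalRing A] [Algebra ℚ A]
    (hA : CAlg.IsGRing A) (d : ℕ) (hd : ringKrullDim A ≤ d) {U : Scheme.{u}} [IsAffine U]
    (j : U ⟶ Spec (CommRingCat.of A)) [IsOpenImmersion j] (F : EtCoh.Ab U) (hF : EtCoh.IsTorsion F) (q : ℕ)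
    (hq : d < q) : closedPoint A ∉ EtPBC.supp ((EtCoh.Rpush j q).obj F) := by
  let s : Spec (CommRingCat.of A) := closedPoint A
  let O := (Spec (CommRingCat.of A)).presheaf.stalk s
  let eO : Localization.AtPrime (maximalIdeal A) ≃+* O :=
    (Spec.stalkIso (CommRingCat.of A) s).symm.commRingCatIsoToRingEquiv
  have hO : CAlg.IsGRing O := Ega4B.GFTQuot.isGRing_of_ringEquiv eO
    (Ega4B.GRingLoc.isGRing_of_isLocalization A (Localization.AtPrime (maximalIdeal A))
      (maximalIdeal A).primeCompl hA)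
  have hNO : IsNoetherianRing O := hO.1
  have hdO : ringKrullDim O ≤ d := by
    rw [← ringKrullDim_eq_of_ringEquiv eO,
      IsLocalization.AtPrime.ringKrullDim_eq_height (maximalIdeal A) (Localization.AtPrime (maximalIdeal A))]
    exact (Ideal.height_le_ringKrullDim_of_ne_top Ideal.IsPrime.ne_top').trans hd
  obtain ⟨R, _, _, _, _, hR⟩ := S0537.result O
  have hGR : CAlg.IsGRing R := Groth.Agent.S2046.result (R := O) (S := R) hO
  have hdR : ringKrullDim R ≤ d := by
    rw [Groth.Agent.S0541.result O R]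
    exact hdO
  have hhR : HenselianLocalRing R := hR.henselian
  have hsR : IsSepClosed (ResidueField R) := hR.isSepClosure.sep_closed
  let _ : Algebra ℚ R := ((algebraMap O R).comp ((eO : _ →+* O).comp
    (algebraMap ℚ (Localization.AtPrime (maximalIdeal A))))).toAlgebra
  refine (not_mem_supp_Rpush_iff j F q s R).2 ?_
  let t := Hens2.specOf (Spec (CommRingCat.of A)) s R
  have haff : IsAffine (pullback j t) := inferInstance
  exact Tower.cohDimLE_affine R hGR d hdR (pullback j t) (pullback.snd j t) _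
    (Groth.Agent.Etcore.Torsion.isTorsion_pull _ F hF) q hq

theorem cohDimLEAt_affine (A : Type u) [CommRing A] [HenselianLocalRing A] [Algebra ℚ A]
    (hA : CAlg.IsGRing A) (d : ℕ) (hd : ringKrullDim A ≤ d) {U : Scheme.{u}} [IsAffine U]
    (j : U ⟶ Spec (CommRingCat.of A)) [IsOpenImmersion j] (ℓ : ℕ) (hℓ : 0 < ℓ) (e : ℕ)
    (hk : Dix.CohDimLEAt (Spec (CommRingCat.of (ResidueField A))) ℓ e) : Dix.CohDimLEAt U ℓ (e + d) :=
  cohDimLEAt_of_closedPoint A j ℓ hℓ e d hk fun F hF q hq =>
    closedPoint_not_mem A hA d hd j F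
      (Groth.Agent.Etbc.H211.PrimTors.isTorsion_of_isPrimaryTorsion hℓ hF) q hq

end Groth.Agent.EtDl.K391.Hens
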