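import Groth.Agent.EtpbcA.ArtinTransfer
import Groth.Agent.EtpbcA.P1Charts
import Groth.Agent.EtpbcA.SuppClosed
import Groth.Agent.EtpbcA.SuppCons
import Groth.Agent.CurvesA.CohBasic
import Groth.Agent.Etbc.H209.UnitPt
import Groth.Agent.S0204
import Groth.Agent.S0537
import Groth.Agent.S0538
import Groth.Agent.Etcore.Torsion

/-!
# Stalks of higher direct images: sheaves supported over a closed set

* `not_mem_supp_Rpush_of_forall`: if no point of the support of `F` maps to a generization of `s`, then the stalks of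
  all `R^n f_* F` at `s` vanish;
* `not_mem_supp_mid`: the stalk of `R^n f_*` of the middle term of a short exact sequence;
* `not_mem_supp_A1_closed`: a torsion sheaf on `A^1_B` supported over the closure of `y`, `κ(y)` of characteristic
  zero, has zero stalk of `R^n p_*` at `y`, `n ≥ 2`.
-/

set_option autoImplicit false
universe u
open CategoryTheory CategoryTheory.Limits AlgebraicGeometry Opposite IsLocalRing

namespace Groth.Agent.EtDl.K391.LTParts

open Groth.Agent.EtpbcA Groth.Agent.EtpbcA.Artin Groth.Agent.EtpbcA.P1Charts Groth.Agent.EtpbcB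
  Groth.Agent.CurvesA

variable {X S : Scheme.{u}} (f : X ⟶ S) [QuasiCompact f] [QuasiSeparated f]

/-- points of `Spec R`, `R` strictly henselian local of `S` at `s`, map to generizations of `s` -/
theorem specOf_specializes (s : S) (R : Type u) [CommRing R] [IsLocalRing R]
    [Algebra (S.presheaf.stalk s) R] [IsLocalHom (algebraMap (S.presheaf.stalk s) R)]
    (t : Spec (CommRingCat.of R)) : Hens2.specOf S s R t ⤳ s := by
  have h : t ⤳ closedPoint R := IsLocalRing.specializes_closedPoint t
  have h2 := h.map (Hens2.specOf S s R).continuous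
  rwa [PBCVan.specOf_closedPoint] at h2

theorem not_mem_supp_Rpush_of_forall (F : EtCoh.Ab X) (n : ℕ) (s : S)
    (h : ∀ x ∈ EtPBC.supp F, ¬ (f x ⤳ s)) : s ∉ EtPBC.supp ((EtCoh.Rpush f n).obj F) := by
  obtain ⟨R, _, _, _, _, hR⟩ := S0537.result (S.presheaf.stalk s)
  rw [not_mem_supp_Rpush_iff f F n s R]
  refine CdEtLeray.H_subsingleton_of_isZero (isZero_of_forall _ fun x hx => ?_) n
  rw [supp_pull] at hx
  refine h _ hx ?_
  rw [← Scheme.Hom.comp_apply, pullback.condition, Scheme.Hom.comp_apply]
  exact specOf_specializes s R _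

/-- exactness of pull-back on short exact sequences -/
theorem shortExact_pull {X' : Scheme.{u}} (g : X' ⟶ X) {T : ShortComplex (EtCoh.Ab X)} (hT : T.ShortExact) :
    (T.map (EtCoh.pull g)).ShortExact := by
  have : PreservesFiniteLimits (EtCoh.pull g) := inferInstance
  have : PreservesFiniteColimits (EtCoh.pull g) := inferInstance
  exact hT.map_of_exact (EtCoh.pull g)

theorem not_mem_supp_mid {T : ShortComplex (EtCoh.Ab X)} (hT : T.ShortExact) (n : ℕ) (s : S)
    (h1 : s ∉ EtPBC.supp ((EtCoh.Rpush f n).obj T.X₁)) (h3 : s ∉ EtPBC.supp ((EtCoh.Rpush f n).obj T.X₃)) :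
    s ∉ EtPBC.supp ((EtCoh.Rpush f n).obj T.X₂) := by
  obtain ⟨R, _, _, _, _, hR⟩ := S0537.result (S.presheaf.stalk s)
  rw [not_mem_supp_Rpush_iff f _ n s R] at h1 h3 ⊢
  exact CohBasic.van_mid (shortExact_pull _ hT) n h1 h3

/-- the only point of a strict henselization over the closed point -/
theorem eq_closedPoint (s : S) (R : Type u) [CommRing R] [IsLocalRing R]
    [Algebra (S.presheaf.stalk s) R] [IsLocalHom (algebraMap (S.presheaf.stalk s) R)]
    [Hensel.IsStrictHenselization (S.presheaf.stalk s) R] (P : Spec (CommRingCat.of R))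
    (hP : Hens2.specOf S s R P = s) : P = closedPoint R := by
  have h1 : (Spec.map (CommRingCat.ofHom (algebraMap (S.presheaf.stalk s) R))) P =
      IsLocalRing.closedPoint (S.presheaf.stalk s) := by
    apply (S.fromSpecStalk s).isEmbedding.injective
    rw [Scheme.fromSpecStalk_closedPoint]
    rw [Hens2.specOf, Scheme.Hom.comp_apply] at hP
    exact hP
  have h2 := congrArg PrimeSpectrum.asIdeal h1
  change Ideal.comap (algebraMap (S.presheaf.stalk s) R) P.asIdeal =
    IsLocalRing.maximalIdeal (S.presheaf.stalk s) at h2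
  refine PrimeSpectrum.ext ((IsLocalRing.le_maximalIdeal P.isPrime.ne_top).antisymm ?_)
  change IsLocalRing.maximalIdeal R ≤ _
  rw [← Groth.Agent.S0538.result (S.presheaf.stalk s) R, Ideal.map_le_iff_le_comap]
  exact h2.ge

/-- affine lines over algebraically closed fields -/
theorem cohDimLE_A1 {B : CommRingCat.{u}} {Ω : Type u} [Field Ω] [IsAlgClosed Ω]
    (ξ : Spec (CommRingCat.of Ω) ⟶ Spec B) : EtCoh.CohDimLE (pullback (pr B) ξ) 1 := by
  have h1 : LocallyOfFiniteType (pr B) := locallyOfFiniteType_pr B
  refine Groth.Agent.S0204.result Ω _ (pullback.snd (pr B) ξ) ?_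
  let j : pullback (pr B) ξ ⟶ pullback (toB B) ξ :=
    pullback.map (pr B) ξ (toB B) ξ (chart 0 B) (𝟙 _) (𝟙 _) (by rw [chart_toB, Category.comp_id])
      (by rw [Category.id_comp, Category.comp_id])
  have hj : IsPullback (pullback.fst (pr B) ξ) j (chart 0 B) (pullback.fst (toB B) ξ) := by
    refine IsPullback.of_bot ?_ ?_ (IsPullback.of_hasPullback (toB B) ξ)
    · have h2 : j ≫ pullback.snd (toB B) ξ = pullback.snd (pr B) ξ := by
        rw [pullback.lift_snd, Category.comp_id]
      rw [h2, chart_toB]
      exact IsPullback.of_hasPullback (pr B) ξ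
    · exact (pullback.lift_fst _ _ _).symm
  have hopen : IsOpenImmersion j := MorphismProperty.of_isPullback hj inferInstance
  exact (j.isOpenEmbedding.isInducing.topologicalKrullDim_le).trans (dim_fiber_le ξ)

/-- `R^n p_* F`, `n ≥ 2`, at `y`, for `F` supported over the closure of `y`. -/
theorem not_mem_supp_A1_closed (B : CommRingCat.{u}) (y : Spec B) [hchar : CharZero ((Spec B).residueField y)]
    (F : EtCoh.Ab (AA B)) (hF : EtCoh.IsTorsion F) (n : ℕ) (hn : 2 ≤ n)
    (hsupp : ∀ x ∈ EtPBC.supp F, y ⤳ pr B x) : y ∉ EtPBC.supp ((EtCoh.Rpush (pr B) n).obj F) := by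
  obtain ⟨R, _, _, _, _, hR⟩ := S0537.result ((Spec B).presheaf.stalk y)
  have hsep : IsSepClosed (ResidueField R) := hR.isSepClosure.sep_closed
  have hcharR : CharZero (ResidueField R) := by
    have : CharZero (ResidueField ((Spec B).presheaf.stalk y)) := hchar
    exact charZero_of_injective_ringHom
      (ResidueField.map (algebraMap ((Spec B).presheaf.stalk y) R)).injective
  have halg : IsAlgClosed (ResidueField R) := by
    refine IsAlgClosed.of_exists_root _ fun q _ hq => ?_
    exact IsSepClosed.exists_root q (Polynomial.degree_pos_of_irreducible hq).ne'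
      (PerfectField.separable_of_irreducible hq)
  rw [not_mem_supp_Rpush_iff (pr B) F n y R]
  let t := Hens2.specOf (Spec B) y R
  let c : Spec (CommRingCat.of (ResidueField R)) ⟶ Spec (CommRingCat.of R) :=
    Spec.map (CommRingCat.ofHom (residue R))
  have hc : IsClosedImmersion c := IsClosedImmersion.spec_of_surjective _ IsLocalRing.residue_surjective
  change Subsingleton (EtCoh.H (pullback (pr B) t) ((EtCoh.pull (pullback.fst (pr B) t)).obj F) n)
  let i : pullback (pullback.snd (pr B) t) c ⟶ pullback (pr B) t := pullback.fst _ _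
  have hi : Set.range i = (pullback.snd (pr B) t) ⁻¹' Set.range c := Scheme.Pullback.range_fst _ _
  refine SuppClosed.van_of_supp_closed i _ ?_ n (by omega) ?_
  · intro x hx
    rw [supp_pull] at hx
    rw [hi]
    have h1 := hsupp _ hx
    have h2 : pr B (pullback.fst (pr B) t x) = t (pullback.snd (pr B) t x) := by
      rw [← Scheme.Hom.comp_apply, pullback.condition, Scheme.Hom.comp_apply]
    rw [h2] at h1
    have h3 := specOf_specializes y R (pullback.snd (pr B) t x)
    have h4 : t (pullback.snd (pr B) t x) = y := (h3.antisymm h1).eq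
    refine ⟨closedPoint (ResidueField R), ?_⟩
    rw [eq_closedPoint y R _ h4]
    exact PBCVan.specMap_closedPoint (residue R)
  · refine cohDimLE_A1 (c ≫ t) |> fun hcd => ?_
    have hpb : IsPullback (i ≫ pullback.fst (pr B) t) (pullback.snd (pullback.snd (pr B) t) c) (pr B) (c ≫ t) :=
      (IsPullback.of_hasPullback (pullback.snd (pr B) t) c).paste_horiz
        (IsPullback.of_hasPullback (pr B) t)
    refine EtpbcA.CdExact.cohDimLE_of_iso hpb.isoPullback.symm 1 hcd _ ?_ n (by omega)
    exact Groth.Agent.Etcore.Torsion.isTorsion_pull _ _ (Groth.Agent.Etcore.Torsion.isTorsion_pull _ F hF)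

end Groth.Agent.EtDl.K391.LTParts
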