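import Groth.Agent.EtpbcA.ArtinP1
import Groth.Agent.EtDl.K391.Fib
import Groth.Agent.Etcore.ShriekBasic
import Groth.Agent.Sga4h.EtaleRes

/-!
# The relative affine line: from the projective line

`step0`: `F` torsion on `A^1_B`, `y` a point of `Spec B`, `n ≥ 1`, the generic point of the fibre over `y` not in the
support of `F` and the stalk of `R^n α_* F` at the point at infinity over `y` zero, `α : A^1_B → P^1_B`: then the
stalk of `R^n p_* F` at `y` is zero.
-/

set_option autoImplicit false
universe u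
open CategoryTheory CategoryTheory.Limits AlgebraicGeometry Opposite

namespace Groth.Agent.EtDl.K391.Step0

open Groth.Agent.EtpbcA Groth.Agent.EtpbcA.Artin Groth.Agent.EtpbcA.P1Charts Fib

/-- the support of a direct image along an open immersion -/
theorem mem_supp_push_iff {U X : Scheme.{u}} (j : U ⟶ X) [IsOpenImmersion j] (F : EtCoh.Ab U) (w : U) :
    j w ∈ EtPBC.supp ((EtCoh.push j).obj F) ↔ w ∈ EtPBC.supp F := by
  have : EtShriek.JCont j := Groth.Agent.Sga4h.EtaleRes.jCont j
  have h : IsIso ((EtCoh.pullPushAdj j).counit.app F) := inferInstance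
  have e : EtPBC.supp ((EtCoh.pull j).obj ((EtCoh.push j).obj F)) = EtPBC.supp F :=
    supp_congr (asIso ((EtCoh.pullPushAdj j).counit.app F))
  rw [← e, supp_pull]
  rfl

theorem step0 (B : CommRingCat.{u}) (y : Spec B) (F : EtCoh.Ab (AA B)) (hF : EtCoh.IsTorsion F) (n : ℕ)
    (hζ : gen B y ∉ EtPBC.supp F)
    (hinf : ∀ w : AA B, (Polynomial.X : Polynomial B) ∈ w.asIdeal → pr B w = y →
      w ∉ EtPBC.supp ((EtCoh.Rpush (pullback.snd (chart 0 B) (chart (0 + 1) B)) (n + 1)).obj
        ((EtCoh.pull (pullback.fst (chart 0 B) (chart (0 + 1) B))).obj F))) :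
    y ∉ EtPBC.supp ((EtCoh.Rpush (pr B) (n + 1)).obj F) := by
  have hprop : IsProper (toB B) := Groth.Agent.Dix.ProjProper.isProper_toBase 1 (Spec B)
  have hqc : QuasiCompact (chart 0 B) := quasiCompact_chart 0 B
  obtain ⟨Ω, _, _, ξ, hξ⟩ := exists_point y
  have hpt : ∀ x : (pullback (toB B) ξ : Scheme.{u}), toB B (pullback.fst (toB B) ξ x) = y := by
    intro x
    rw [← Scheme.Hom.comp_apply, pullback.condition, Scheme.Hom.comp_apply]
    have h3 : ξ (pullback.snd (toB B) ξ x) ∈ Set.range ξ := ⟨_, rfl⟩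
    rw [hξ] at h3
    exact h3
  have h0 : y ∉ EtPBC.supp ((EtCoh.Rpush (toB B) (n + 1)).obj ((EtCoh.push (chart 0 B)).obj F)) := by
    refine not_mem_supp_of_fiber (toB B) ξ y hξ _ (RpushTors.isTorsion_push (chart 0 B) F hF) (n + 1) ?_
    refine Groth.Agent.S0171.result _ (pullback.snd (toB B) ξ) _ (fun x hx => ?_) (n + 1)
      (Nat.succ_pos n)
    by_cases hr : pullback.fst (toB B) ξ x ∈ Set.range (chart 0 B)
    · obtain ⟨w, hw⟩ := hr
      refine (isClosed_or_specializes ξ y hξ 0 x w hw).resolve_right ?_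
      rintro rfl
      apply hζ
      rw [supp_pull, Set.mem_preimage, ← hw] at hx
      exact (mem_supp_push_iff (chart 0 B) F (gen B y)).1 hx
    · exact isClosed_fiber ξ 0 x hr
  have h1 : ∀ p q', p + (q' + 1) = n + 1 →
      y ∉ EtPBC.supp ((EtCoh.Rpush (toB B) p).obj ((EtCoh.Rpush (chart 0 B) (q' + 1)).obj F)) := by
    intro p q' hpq
    have hG : EtCoh.IsTorsion ((EtCoh.Rpush (chart 0 B) (q' + 1)).obj F) :=
      Groth.Agent.S0125.result (chart 0 B) F hF (q' + 1)
    refine not_mem_supp_of_fiber (toB B) ξ y hξ _ hG p ?_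
    have hsupp : ∀ x ∈ EtPBC.supp ((EtCoh.pull (pullback.fst (toB B) ξ)).obj
        ((EtCoh.Rpush (chart 0 B) (q' + 1)).obj F)),
        pullback.fst (toB B) ξ x ∉ Set.range (chart 0 B) := by
      intro x hx hx'
      rw [supp_pull] at hx
      exact not_mem_supp_Rpush_of_open (chart 0 B) F q' _ hx' hx
    rcases Nat.eq_zero_or_pos p with rfl | hp
    · -- `p = 0`
      have hq : q' = n := by omega
      subst hq
      apply CdEtLeray.H_subsingleton_of_isZero
      apply isZero_of_forall
      intro x hx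
      have h2 := hsupp x hx
      rw [supp_pull] at hx
      obtain ⟨w, hw, hwX⟩ := mem_range_other 0 B _ h2
      rw [Set.mem_preimage, ← hw] at hx
      have hy' : pr B w = y := by
        rw [← chart_toB (0 + 1) B, Scheme.Hom.comp_apply, hw]
        exact hpt x
      rw [mem_supp_Rpush_iff_of_isPullback (chart (0 + 1) B) (chart 0 B)
        (pullback.fst (chart 0 B) (chart (0 + 1) B)) (pullback.snd (chart 0 B) (chart (0 + 1) B))
        (IsPullback.of_hasPullback _ _) F (q' + 1) w] at hx
      exact hinf w hwX hy' hx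
    · exact Groth.Agent.S0171.result _ (pullback.snd (toB B) ξ) _
        (fun x hx => isClosed_fiber ξ 0 x (hsupp x hx)) p hp
  have h2 := CdDiesEt.not_mem_supp_Rpush_comp (chart 0 B) (toB B) F (n + 1) y h0 h1
  simp only [chart_toB] at h2
  exact h2

end Groth.Agent.EtDl.K391.Step0
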