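import Groth.Agent.EtDl.K391.BLocal
import Groth.Agent.EtDl.K391.Step0
import Groth.Agent.EtDl.K391.LTParts
import Groth.Agent.EtDl.K391.Fib
import Groth.Agent.EtDl.K391.DimFn
import Groth.Agent.EtpbcA.RpushTors
import Groth.Agent.EtpbcA.SuppCons
import Groth.Agent.Ega4B.GFTPoly
import Groth.Agent.Etcore.Torsion
import Groth.Agent.EtpbcB.TorsionBasic

/-!
# The relative affine line

`lt`: `B` a G-ring containing `ℚ`, `δ` a strictly decreasing function on `Spec B`, `F` torsion on `A^1_B` and
`y` a point of `Spec B` with `δ' x < n + δ y` for all `x` in the support of `F` (`δ'` the extension of `δ`): the stalk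
of `R^n p_* F` at `y` is zero.
-/

set_option autoImplicit false
universe u
open CategoryTheory CategoryTheory.Limits AlgebraicGeometry Opposite IsLocalRing

namespace Groth.Agent.EtDl.K391.LT

open Groth.Agent.EtpbcA Groth.Agent.EtpbcA.Artin Groth.Agent.EtpbcA.P1Charts Groth.Agent.EtpbcB
  Groth.Agent.CurvesA Fib DimFn

theorem charZero_residueField (B : CommRingCat.{u}) [Algebra ℚ B] (y : Spec B) :
    CharZero ((Spec B).residueField y) := by
  let g : B ⟶ (Spec B).residueField y := Spec.preimage ((Spec B).fromSpecResidueField y)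
  let _ : Algebra ℚ ((Spec B).residueField y) := (g.hom.comp (algebraMap ℚ B)).toAlgebra
  exact algebraRat.charZero _

/-- The stalk of `R^{n+1} p_* F` when the generic point of the fibre is not in the support. -/
theorem lt_of_gen (B : CommRingCat.{u}) [Algebra ℚ B] (hB : CAlg.IsGRing B)
    (δ : PrimeSpectrum B → ℕ) (hδ : StrictAnti δ) (F : EtCoh.Ab (AA B)) (hF : EtCoh.IsTorsion F) (n : ℕ)
    (y : Spec B) (h : ∀ x ∈ EtPBC.supp F, ext δ x < n + 1 + δ y) (hg : gen B y ∉ EtPBC.supp F) :
    y ∉ EtPBC.supp ((EtCoh.Rpush (pr B) (n + 1)).obj F) := by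
  have hNB : IsNoetherianRing B := hB.1
  have hqc : QuasiCompact (chart 0 B) := Artin.quasiCompact_chart 0 B
  let _ : Algebra ℚ (Polynomial B) := inferInstance
  refine Step0.step0 B y F hF n hg fun w hwX hwy => ?_
  refine BLocal.not_mem_supp_basicOpen (Polynomial B) (Ega4B.GFTPoly.isGRing_polynomial B hB) (ext δ)
    (strictAnti_ext δ hδ) (Polynomial.X : Polynomial B) (pullback.snd (chart 0 B) (chart (0 + 1) B))
    (fun v => ?_) _ (Groth.Agent.Etcore.Torsion.isTorsion_pull _ F hF) n w fun x hx => ?_
  · rw [Scheme.Pullback.range_snd, Set.mem_preimage]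
    exact chart_mem_range_iff 0 B v
  · rw [supp_pull] at hx
    have h1 := h _ hx
    have h2 : ext δ (pullback.fst (chart 0 B) (chart (0 + 1) B) x) =
        ext δ (pullback.snd (chart 0 B) (chart (0 + 1) B) x) := by
      refine ext_eq_of_chart_eq B δ 0 _ _ ?_
      rw [← Scheme.Hom.comp_apply, pullback.condition, Scheme.Hom.comp_apply]
    rw [h2] at h1
    have h3 : δ y ≤ ext δ w := by
      rw [← hwy]
      exact le_ext δ w
    omega

theorem lt (B : CommRingCat.{u}) [Algebra ℚ B] (hB : CAlg.IsGRing B)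
    (δ : PrimeSpectrum B → ℕ) (hδ : StrictAnti δ) (F : EtCoh.Ab (AA B)) (hF : EtCoh.IsTorsion F) (n : ℕ)
    (y : Spec B) (h : ∀ x ∈ EtPBC.supp F, ext δ x < n + δ y) :
    y ∉ EtPBC.supp ((EtCoh.Rpush (pr B) n).obj F) := by
  have hgen : ext δ (gen B y) = δ y + 1 := by
    rw [ext_of_eq δ (gen B y) ((eq_gen_iff B (gen B y)).1 (by rw [pr_gen]))]
    exact congrArg (fun z => δ z + 1) (pr_gen B y)
  rcases n with _ | _ | n
  · -- `n = 0`
    refine LTParts.not_mem_supp_Rpush_of_forall (pr B) F 0 y fun x hx hxy => ?_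
    have h1 := h x hx
    have h2 : δ y ≤ δ (pr B x) := by
      refine hδ.antitone ?_
      exact (PrimeSpectrum.le_iff_specializes (R := B) _ _).2 hxy
    have h3 : δ (pr B x) ≤ ext δ x := le_ext δ x
    omega
  · -- `n = 1`
    refine lt_of_gen B hB δ hδ F hF 0 y (fun x hx => by have := h x hx; omega) fun hg => ?_
    have h1 := h _ hg
    rw [hgen] at h1
    omega
  · -- `n ≥ 2`
    let I : Ideal (Polynomial B) := (PrimeSpectrum.asIdeal (R := B) y).map (Polynomial.C : B →+* Polynomial B)
    let i : Spec (CommRingCat.of (Polynomial B ⧸ I)) ⟶ AA B :=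
      Spec.map (CommRingCat.ofHom (Ideal.Quotient.mk I))
    have hcl : IsClosedImmersion i := IsClosedImmersion.spec_of_surjective _ Ideal.Quotient.mk_surjective
    have hr : ∀ x : AA B, x ∈ Set.range i ↔ y ⤳ pr B x := by
      intro x
      have h1 : Set.range i = PrimeSpectrum.zeroLocus (I : Set (Polynomial B)) := by
        refine (range_comap_of_surjective _ _ Ideal.Quotient.mk_surjective).trans ?_
        rw [Ideal.mk_ker]
      rw [h1]
      refine Iff.trans ?_ (PrimeSpectrum.le_iff_specializes (R := B) _ _)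
      exact Ideal.map_le_iff_le_comap
    let u := (EtCoh.pullPushAdj i).unit.app F
    have hchar : CharZero ((Spec B).residueField y) := charZero_residueField B y
    have hepi : Epi u := by
      refine Preadditive.epi_of_isZero_cokernel _ (isZero_of_forall _ fun x hx => ?_)
      have h1 : x ∈ Set.range i := SuppClosed.supp_push i _ (SuppClosed.supp_of_epi (cokernel.π u) hx)
      exact Groth.Agent.Etbc.H209.UnitPt.not_mem_supp_cokernel i F h1 hx
    let T : ShortComplex (EtCoh.Ab (AA B)) := ShortComplex.mk (kernel.ι u) u (kernel.condition _)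
    have hT : T.ShortExact :=
      { exact := ShortComplex.exact_of_f_is_kernel _ (kernelIsKernel _)
        mono_f := inferInstanceAs (Mono (kernel.ι u))
        epi_g := hepi }
    refine LTParts.not_mem_supp_mid (pr B) hT (n + 1 + 1) y ?_ ?_
    · have hsub : EtPBC.supp (kernel u) ⊆ EtPBC.supp F := SuppCons.supp_subset_of_mono (kernel.ι u)
      have hFk : EtCoh.IsTorsion (kernel u) := TorsionBasic.isTorsion_of_mono (kernel.ι u) hF
      refine lt_of_gen B hB δ hδ (kernel u) hFk (n + 1) y (fun x hx => ?_) fun hg => ?_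
      · exact h x (hsub hx)
      · refine Groth.Agent.Etbc.H209.UnitPt.not_mem_supp_kernel i F (y := gen B y) ?_ hg
        rw [hr, pr_gen]
    · refine LTParts.not_mem_supp_A1_closed B y _
        (RpushTors.isTorsion_push i _ (Groth.Agent.Etcore.Torsion.isTorsion_pull _ F hF)) (n + 1 + 1) (by omega) ?_
      intro x hx
      exact (hr x).1 (SuppClosed.supp_push i _ hx)

end Groth.Agent.EtDl.K391.LT
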