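import Mathlib.RingTheory.Henselian
import Mathlib.Algebra.Order.Ring.Defs
import Mathlib.Algebra.Order.BigOperators.Group.List
import Mathlib.Tactic.Ring

/-!
# Sums of squares in henselian local rings

If `-1` is a sum of squares in the residue field of a henselian local ring `A` in which `2` is invertible then it is a
sum of squares in `A`, and no residue field of `Spec A` is orderable.
-/

set_option autoImplicit false
universe u

open IsLocalRing

namespace Groth.Agent.EtDl.K391.SumSq

theorem exists_lift (A : Type u) [CommRing A] [HenselianLocalRing A] (h2 : IsUnit (2 : A))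
    (l : List (ResidueField A)) (hl : (l.map (fun a => a * a)).sum = -1) :
    ∃ l' : List A, (l'.map (fun a => a * a)).sum = -1 := by
  have h1 : ∃ a ∈ l, a ≠ 0 := by
    by_contra h
    push Not at h
    have h3 : (l.map (fun a => a * a)).sum = 0 := by
      refine List.sum_eq_zero fun x hx => ?_
      obtain ⟨a, ha, rfl⟩ := List.mem_map.1 hx
      rw [h a ha, mul_zero]
    rw [h3] at hl
    exact one_ne_zero (α := ResidueField A) (by rw [← neg_eq_zero]; exact hl.symm)
  obtain ⟨a, ha, ha0⟩ := h1
  obtain ⟨s, t, rfl⟩ := List.append_of_mem ha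
  obtain ⟨r, hr⟩ : ∃ r : List A, r.map (residue A) = s ++ t :=
    (List.map_surjective_iff.2 residue_surjective) (s ++ t)
  obtain ⟨a₀, rfl⟩ := residue_surjective a
  have hsum : residue A a₀ * residue A a₀ + (((s ++ t).map (fun a => a * a)).sum) = -1 := by
    rw [← hl]
    simp only [List.map_append, List.map_cons, List.sum_append, List.sum_cons]
    ring
  have hres : residue A ((r.map (fun a => a * a)).sum) = (((s ++ t).map (fun a => a * a)).sum) := by
    rw [← hr, map_list_sum, List.map_map, List.map_map]
    refine congrArg List.sum (List.map_congr_left fun x _ => ?_)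
    exact map_mul _ _ _
  let c : A := -1 - (r.map (fun a => a * a)).sum
  have hc : residue A c = residue A a₀ * residue A a₀ := by
    rw [map_sub, hres, map_neg, map_one, ← hsum]
    ring
  let f : Polynomial A := Polynomial.X ^ 2 - Polynomial.C c
  have hf : f.Monic := Polynomial.monic_X_pow_sub_C c two_ne_zero
  have hf0 : f.eval a₀ ∈ maximalIdeal A := by
    rw [← residue_eq_zero_iff]
    simp only [f, Polynomial.eval_sub, Polynomial.eval_pow, Polynomial.eval_X, Polynomial.eval_C,
      map_sub, map_pow, hc]
    ring
  have hf1 : IsUnit (f.derivative.eval a₀) := by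
    have h3 : f.derivative.eval a₀ = 2 * a₀ := by
      simp [f]
      ring
    rw [h3]
    refine h2.mul ?_
    by_contra h4
    exact ha0 ((residue_eq_zero_iff a₀).2 h4)
  obtain ⟨α, hα, -⟩ := HenselianLocalRing.is_henselian f hf a₀ hf0 hf1
  refine ⟨α :: r, ?_⟩
  have h5 : α ^ 2 - c = 0 := by
    have h6 := hα
    simp only [f, Polynomial.IsRoot.def, Polynomial.eval_sub, Polynomial.eval_pow, Polynomial.eval_X,
      Polynomial.eval_C] at h6
    exact h6
  rw [List.map_cons, List.sum_cons]
  have h7 : α * α = c := by
    rw [← pow_two]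
    exact sub_eq_zero.1 h5
  rw [h7]
  exact sub_add_cancel _ _

theorem not_orderable {A F : Type u} [CommRing A] [Field F] (φ : A →+* F) (l : List A)
    (hl : (l.map (fun a => a * a)).sum = -1) :
    ¬ ∃ _ : LinearOrder F, IsStrictOrderedRing F := by
  rintro ⟨_, _⟩
  have h1 : (0 : F) ≤ ((l.map φ).map (fun a => a * a)).sum := by
    refine List.sum_nonneg fun x hx => ?_
    obtain ⟨y, -, rfl⟩ := List.mem_map.1 hx
    exact mul_self_nonneg y
  have h2 : ((l.map φ).map (fun a => a * a)).sum = -1 := by
    have h3 := congrArg φ hl
    rw [map_list_sum, List.map_map, map_neg, map_one] at h3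
    rw [← h3, List.map_map]
    congr 1
    refine List.map_congr_left fun x _ => ?_
    exact (map_mul φ x x).symm
  rw [h2] at h1
  have h4 : (-1 : F) < 0 := neg_lt_zero.2 one_pos
  exact absurd h1 (not_le.2 h4)

end Groth.Agent.EtDl.K391.SumSq
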