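import Groth.Agent.EtDl.K391.LT
import Groth.Agent.EtpbcA.CdT1
import Groth.Agent.S0125
import Groth.Agent.S0067
import Groth.Agent.Etdl.H435.FinLem

/-!
# Affine vanishing for algebras of finite type over G-rings containing `ℚ`

`V A δ`: `H^n(Spec A, F) = 0` for all torsion sheaves `F` and all `n` such that `δ < n` on the support of `F`.

* `V_polynomial`: `V A δ` implies `V A[X] δ'`;
* `tower`: `V A δ` implies the vanishing of `H^n(Spec B, F)` for `B` generated by `r` elements over `A` and `F`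
  torsion with `δ < n` on the image of the support and algebraic residue field extensions at the points of the
  support.
* `cohDimLE_affineOpen`: `cd U ≤ dim T` for `U` an affine open subscheme of `Spec T`, `T` a strictly henselian
  G-ring containing `ℚ`.
-/

set_option autoImplicit false
universe u
open CategoryTheory CategoryTheory.Limits AlgebraicGeometry Opposite IsLocalRing

namespace Groth.Agent.EtDl.K391.Tower

open Groth.Agent.EtpbcA Groth.Agent.EtpbcA.Artin Groth.Agent.EtpbcA.P1Charts DimFn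

/-- vanishing of cohomology in terms of the support -/
def V (A : Type u) [CommRing A] (δ : PrimeSpectrum A → ℕ) : Prop :=
  ∀ (F : EtCoh.Ab (Spec (CommRingCat.of A))), EtCoh.IsTorsion F → ∀ n : ℕ,
    (∀ x ∈ EtPBC.supp F, δ x < n) → Subsingleton (EtCoh.H (Spec (CommRingCat.of A)) F n)

theorem V_polynomial (A : Type u) [CommRing A] [Algebra ℚ A] (hA : CAlg.IsGRing A)
    (δ : PrimeSpectrum A → ℕ) (hδ : StrictAnti δ) (hV : V A δ) : V (Polynomial A) (ext δ) := by
  intro F hF n h
  have hA' : CAlg.IsGRing (CommRingCat.of A) := hA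
  let _ : Algebra ℚ (CommRingCat.of A) := inferInstanceAs (Algebra ℚ A)
  refine CdT1.H_subsingleton_of_Rpush (pr (CommRingCat.of A)) F n fun p q hpq => ?_
  refine hV _ (S0125.result (pr (CommRingCat.of A)) F hF q) p fun y hy => ?_
  by_contra hlt
  refine LT.lt (CommRingCat.of A) hA' δ hδ F hF q y (fun x hx => ?_) hy
  have h1 := h x hx
  change ext δ x < q + δ y
  omega

/-- algebraic residue field extensions, in elementary form -/
def Alg {A B : Type u} [CommRing A] [CommRing B] (φ : A →+* B) (b : PrimeSpectrum B) : Prop :=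
  ∀ x : B, ∃ f : Polynomial A, f.eval₂ φ x ∈ b.asIdeal ∧ ∃ i : ℕ, φ (f.coeff i) ∉ b.asIdeal

theorem Alg.polynomial {A B : Type u} [CommRing A] [CommRing B] {φ : A →+* B} {b : PrimeSpectrum B}
    (h : Alg φ b) (s : B) : Alg (Polynomial.eval₂RingHom φ s) b := by
  intro x
  obtain ⟨f, hf, i, hi⟩ := h x
  refine ⟨f.map Polynomial.C, ?_, i, ?_⟩
  · rw [Polynomial.eval₂_map]
    have h1 : (Polynomial.eval₂RingHom φ s).comp Polynomial.C = φ := by
      ext a
      simp
    rwa [h1]
  · rw [Polynomial.coeff_map]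
    simpa using hi

theorem Alg.ext_eq {A B : Type u} [CommRing A] [CommRing B] {φ : A →+* B} {b : PrimeSpectrum B}
    (h : Alg φ b) (s : B) (δ : PrimeSpectrum A → ℕ) :
    ext δ (b.comap (Polynomial.eval₂RingHom φ s)) = δ (b.comap φ) := by
  have h1 : (b.comap (Polynomial.eval₂RingHom φ s)).comap (Polynomial.C : A →+* Polynomial A) = b.comap φ := by
    apply PrimeSpectrum.ext
    ext a
    change (Polynomial.eval₂RingHom φ s) (Polynomial.C a) ∈ b.asIdeal ↔ φ a ∈ b.asIdeal
    rw [Polynomial.coe_eval₂RingHom, Polynomial.eval₂_C]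
  rw [ext_of_ne, h1]
  intro h2
  obtain ⟨f, hf, i, hi⟩ := h s
  have h3 : f ∈ (b.comap (Polynomial.eval₂RingHom φ s)).asIdeal := hf
  rw [h2, Ideal.mem_map_C_iff] at h3
  have h4 := h3 i
  have h5 : (Polynomial.eval₂RingHom φ s) (Polynomial.C (f.coeff i)) ∈ b.asIdeal := h4
  rw [Polynomial.coe_eval₂RingHom, Polynomial.eval₂_C] at h5
  exact hi h5

theorem V_surjective {A B : Type u} [CommRing A] [CommRing B] (φ : A →+* B) (hφ : Function.Surjective φ)
    (δ : PrimeSpectrum A → ℕ) (hV : V A δ) (F : EtCoh.Ab (Spec (CommRingCat.of B))) (hF : EtCoh.IsTorsion F)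
    (n : ℕ) (h : ∀ b ∈ EtPBC.supp F, δ (PrimeSpectrum.comap φ b) < n) :
    Subsingleton (EtCoh.H (Spec (CommRingCat.of B)) F n) := by
  let i : Spec (CommRingCat.of B) ⟶ Spec (CommRingCat.of A) := Spec.map (CommRingCat.ofHom φ)
  have hcl : IsClosedImmersion i := IsClosedImmersion.spec_of_surjective _ hφ
  refine CdEtLeray.H_subsingleton_of_leray i F n ?_ fun p q _ =>
    CdEtLeray.H_subsingleton_of_isZero (SuppClosed.isZero_Rpush i F q) p
  refine hV _ (RpushTors.isTorsion_push i F hF) n fun x hx => ?_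
  obtain ⟨b, rfl⟩ := SuppClosed.supp_push i F hx
  obtain ⟨_, hiso⟩ := S0067.result i
  have : IsIso ((EtCoh.pullPushAdj i).counit.app F) := inferInstance
  have e : EtPBC.supp ((EtCoh.pull i).obj ((EtCoh.push i).obj F)) = EtPBC.supp F :=
    supp_congr (asIso ((EtCoh.pullPushAdj i).counit.app F))
  refine h b ?_
  rw [← e, supp_pull]
  exact hx

theorem tower (r : ℕ) : ∀ (A : Type u) [CommRing A] [Algebra ℚ A] (_ : CAlg.IsGRing A)
    (δ : PrimeSpectrum A → ℕ) (_ : StrictAnti δ) (_ : V A δ) (B : Type u) [CommRing B] (φ : A →+* B)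
    (s : Fin r → B) (_ : ∀ T : Subring B, (∀ a, φ a ∈ T) → (∀ i, s i ∈ T) → ∀ b, b ∈ T)
    (F : EtCoh.Ab (Spec (CommRingCat.of B))) (_ : EtCoh.IsTorsion F) (n : ℕ)
    (_ : ∀ b ∈ EtPBC.supp F, Alg φ b ∧ δ (PrimeSpectrum.comap φ b) < n),
    Subsingleton (EtCoh.H (Spec (CommRingCat.of B)) F n) := by
  induction r with
  | zero =>
    intro A _ _ hA δ hδ hV B _ φ s hs F hF n h
    refine V_surjective φ (fun b => ?_) δ hV F hF n fun b hb => (h b hb).2
    exact hs φ.range (fun a => ⟨a, rfl⟩) (fun i => i.elim0) b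
  | succ r ih =>
    intro A _ _ hA δ hδ hV B _ φ s hs F hF n h
    have : IsNoetherianRing A := hA.1
    refine ih (Polynomial A) (Ega4B.GFTPoly.isGRing_polynomial A hA) (ext δ) (strictAnti_ext δ hδ)
      (V_polynomial A hA δ hδ hV) B (Polynomial.eval₂RingHom φ (s 0)) (fun i => s i.succ) ?_ F hF n ?_
    · intro T hT1 hT2
      refine hs T (fun a => ?_) (fun i => ?_)
      · have h1 := hT1 (Polynomial.C a)
        rwa [Polynomial.coe_eval₂RingHom, Polynomial.eval₂_C] at h1
      · refine Fin.cases ?_ (fun j => hT2 j) i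
        have h1 := hT1 Polynomial.X
        rwa [Polynomial.coe_eval₂RingHom, Polynomial.eval₂_X] at h1
    · intro b hb
      obtain ⟨h1, h2⟩ := h b hb
      refine ⟨h1.polynomial (s 0), ?_⟩
      have h3 := h1.ext_eq (s 0) δ
      exact lt_of_eq_of_lt h3 h2

/-- finite type algebras -/
theorem exists_generators {A B : Type u} [CommRing A] [CommRing B] (φ : A →+* B) (hφ : φ.FiniteType) :
    ∃ (r : ℕ) (s : Fin r → B), ∀ T : Subring B, (∀ a, φ a ∈ T) → (∀ i, s i ∈ T) → ∀ b, b ∈ T := by
  let _ : Algebra A B := φ.toAlgebra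
  have h : Algebra.FiniteType A B := hφ
  obtain ⟨t, ht⟩ := h.out
  refine ⟨t.card, fun i => (t.equivFin.symm i : B), fun T hT1 hT2 b => ?_⟩
  let T' : Subalgebra A B := { T with algebraMap_mem' := hT1 }
  have h1 : Algebra.adjoin A (t : Set B) ≤ T' := by
    refine Algebra.adjoin_le fun x hx => ?_
    have h2 : ((t.equivFin.symm (t.equivFin ⟨x, hx⟩) : t) : B) ∈ T := hT2 _
    rw [Equiv.symm_apply_apply] at h2
    exact h2
  rw [ht] at h1
  exact h1 (x := b) trivial

/-- **Affine vanishing**, finite type form. -/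
theorem H_subsingleton_of_finiteType (A : Type u) [CommRing A] [Algebra ℚ A] (hA : CAlg.IsGRing A)
    (δ : PrimeSpectrum A → ℕ) (hδ : StrictAnti δ) (hV : V A δ) (B : Type u) [CommRing B] (φ : A →+* B)
    (hφ : φ.FiniteType) (F : EtCoh.Ab (Spec (CommRingCat.of B))) (hF : EtCoh.IsTorsion F) (n : ℕ)
    (h : ∀ b ∈ EtPBC.supp F, Alg φ b ∧ δ (PrimeSpectrum.comap φ b) < n) :
    Subsingleton (EtCoh.H (Spec (CommRingCat.of B)) F n) := by
  obtain ⟨r, s, hs⟩ := exists_generators φ hφ
  exact tower r A hA δ hδ hV B φ s hs F hF n h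

/-- strictly henselian local rings -/
theorem V_strictHenselian (T : Type u) [CommRing T] [HenselianLocalRing T] [IsSepClosed (ResidueField T)]
    (δ : PrimeSpectrum T → ℕ) : V T δ := by
  intro F hF n h
  rcases Nat.eq_zero_or_pos n with rfl | hn
  · exact CdEtLeray.H_subsingleton_of_isZero
      (isZero_of_forall F fun x hx => absurd (h x hx) (Nat.not_lt_zero _)) 0
  · exact Groth.Agent.Etdl.H435.FinLem.cohDimLE_zero T F hF n hn

theorem isIso_stalkMap {X Y : Scheme.{u}} (f : X ⟶ Y) [IsOpenImmersion f] (x : X) : IsIso (f.stalkMap x) :=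
  inferInstance

/-- open immersions have trivial residue field extensions -/
theorem alg_of_isOpenImmersion {A B : Type u} [CommRing A] [CommRing B] (φ : A →+* B)
    (h : IsOpenImmersion (Spec.map (CommRingCat.ofHom φ))) (b : PrimeSpectrum B) : Alg φ b := by
  have hiso : IsIso ((Spec.map (CommRingCat.ofHom φ)).stalkMap b) :=
    isIso_stalkMap (Spec.map (CommRingCat.ofHom φ)) b
  have h2 : IsIso (CommRingCat.ofHom (Localization.localRingHom (b.asIdeal.comap φ) b.asIdeal φ rfl)) := by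
    have h3 := (MorphismProperty.isomorphisms CommRingCat.{u}).arrow_mk_iso_iff
      (Scheme.arrowStalkMapSpecIso (CommRingCat.ofHom φ) b)
    exact h3.1 hiso
  have hsurj : Function.Surjective (Localization.localRingHom (b.asIdeal.comap φ) b.asIdeal φ rfl) :=
    ((ConcreteCategory.isIso_iff_bijective _).1 h2).2
  intro x
  obtain ⟨z, hz⟩ := hsurj (algebraMap B (Localization.AtPrime b.asIdeal) x)
  obtain ⟨a, s, rfl⟩ := IsLocalization.exists_mk'_eq (b.asIdeal.comap φ).primeCompl z
  rw [Localization.localRingHom_mk', IsLocalization.mk'_eq_iff_eq_mul, ← map_mul,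
    IsLocalization.eq_iff_exists b.asIdeal.primeCompl] at hz
  obtain ⟨c, hc⟩ := hz
  refine ⟨Polynomial.C a - Polynomial.C (s : A) * Polynomial.X, ?_, 1, ?_⟩
  · have h4 : (c : B) * (φ a - x * φ s) = 0 := by
      rw [mul_sub, sub_eq_zero]
      exact hc
    have h5 : (c : B) * (φ a - x * φ s) ∈ b.asIdeal := by rw [h4]; exact b.asIdeal.zero_mem
    have h6 := (b.isPrime.mem_or_mem h5).resolve_left c.2
    rw [Polynomial.eval₂_sub, Polynomial.eval₂_mul, Polynomial.eval₂_C, Polynomial.eval₂_C, Polynomial.eval₂_X,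
      mul_comm]
    exact h6
  · have h7 : (Polynomial.C a - Polynomial.C (s : A) * Polynomial.X).coeff 1 = -(s : A) := by
      simp
    rw [h7, map_neg, Ideal.neg_mem_iff]
    exact s.2

/-- `cd U ≤ dim T`, `U = Spec B`. -/
theorem cohDimLE_of_isOpenImmersion (T : Type u) [CommRing T] [Algebra ℚ T] (hT : CAlg.IsGRing T)
    [HenselianLocalRing T] [IsSepClosed (ResidueField T)] (d : ℕ) (hd : ringKrullDim T ≤ d)
    (B : Type u) [CommRing B] (φ : T →+* B) (h : IsOpenImmersion (Spec.map (CommRingCat.ofHom φ))) :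
    EtCoh.CohDimLE (Spec (CommRingCat.of B)) d := by
  intro F hF n hn
  obtain ⟨δ, hδ, hδd⟩ := exists_strictAnti (A := T) d hd
  have hft : φ.FiniteType := by
    have h1 : LocallyOfFiniteType (Spec.map (CommRingCat.ofHom φ)) := inferInstance
    exact (HasRingHomProperty.Spec_iff (P := @LocallyOfFiniteType)).1 h1
  exact H_subsingleton_of_finiteType T hT δ hδ (V_strictHenselian T δ) B φ hft F hF n fun b _ =>
    ⟨alg_of_isOpenImmersion φ h b, lt_of_le_of_lt (hδd _) hn⟩

/-- `cd U ≤ dim T` for an affine open subscheme `U` of `Spec T`. -/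
theorem cohDimLE_affine (T : Type u) [CommRing T] [Algebra ℚ T] (hT : CAlg.IsGRing T)
    [HenselianLocalRing T] [IsSepClosed (ResidueField T)] (d : ℕ) (hd : ringKrullDim T ≤ d)
    (U : Scheme.{u}) [IsAffine U] (j : U ⟶ Spec (CommRingCat.of T)) [IsOpenImmersion j] :
    EtCoh.CohDimLE U d := by
  have h1 : IsOpenImmersion (U.isoSpec.inv ≫ j) := inferInstance
  obtain ⟨φ, hφ⟩ : ∃ φ : CommRingCat.of T ⟶ Γ(U, ⊤), Spec.map φ = U.isoSpec.inv ≫ j :=
    ⟨Spec.preimage _, Spec.map_preimage _⟩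
  rw [← hφ] at h1
  exact CdExact.cohDimLE_of_iso U.isoSpec.symm d (cohDimLE_of_isOpenImmersion T hT d hd Γ(U, ⊤) φ.hom h1)

end Groth.Agent.EtDl.K391.Tower
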